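import Cfsg.Agent.Lib.AltPPair.Transfer

/-!
The configurations on one long cycle.
-/

set_option autoImplicit false

namespace Cfsg.Agent.Lib.AltPPair

open Equiv
open List (formPerm formPerm_cons_cons formPerm_apply_of_notMem formPerm_apply_head formPerm_apply_getLast
  formPerm_append_pair formPerm_pow_length_eq_one_of_nodup formPerm_eq_one_iff)

theorem np_of_swap {α : Type*} {p : ℕ} (hodd : Odd p) {g : Perm α} {x z : α} (hx : g x = z) (hz : g z = x)
    (hne : x ≠ z) : NP p g := by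
  rintro ⟨k, hk⟩
  obtain ⟨j, hj⟩ := (hodd.pow : Odd (p ^ k))
  have h := congrArg (fun σ : Perm α => σ x) (pow_orderOf_eq_one g)
  rw [hk, hj] at h
  have h2 : ∀ i : ℕ, (g ^ (2 * i)) x = x := by
    intro i
    induction i with
    | zero => simp
    | succ i ih => rw [Nat.mul_succ, pow_succ, pow_succ, mul_assoc, Perm.mul_apply, Perm.mul_apply, hx, hz, ih]
  simp only [pow_succ', Perm.mul_apply, h2, Perm.one_apply] at h
  rw [hx] at h
  exact hne h.symm

theorem commute_of_fix {α : Type*} {g h : Perm α} (H : ∀ x, g x ≠ x → h x = x) : g * h = h * g :=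
  (show Perm.Disjoint g h from fun x => by
    by_cases hg : g x = x
    · exact Or.inl hg
    · exact Or.inr (H x hg)).commute.eq

variable {α : Type*} [DecidableEq α]

theorem formPerm_mem_of_ne {l : List α} {x : α} (h : l.formPerm x ≠ x) : x ∈ l := by
  by_contra hx
  exact h (formPerm_apply_of_notMem hx)

theorem prodCyc_append (a b : List (α × List α)) : prodCyc (a ++ b) = prodCyc a * prodCyc b := by
  simp [prodCyc]

theorem pts_append (a b : List (α × List α)) : pts (a ++ b) = pts a ++ pts b := by simp [pts]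

/-- Fixed points as cycles of length one. -/
def singles (fs : List α) : List (α × List α) := fs.map fun f => (f, [])

theorem singles_facts : ∀ fs : List α,
    prodCyc (singles fs) = 1 ∧ pts (singles fs) = fs ∧ (singles fs).map Prod.fst = fs
  | [] => by simp [singles, prodCyc, pts]
  | f :: fs => by
    obtain ⟨h1, h2, h3⟩ := singles_facts fs
    simp only [singles] at h1 h2 h3 ⊢
    simp only [prodCyc, pts] at h1 h2 ⊢
    simp [h1, h2, h3, Function.comp_def]

theorem conj_swap (P : Perm α) (a b : α) : P * swap a b * P⁻¹ = swap (P a) (P b) := by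
  rw [mul_swap_eq_swap_mul, mul_inv_cancel_right]

theorem eq_of_shared {Cs : List (α × List α)} (h : (pts Cs).Nodup) {c d : α × List α} (hc : c ∈ Cs) (hd : d ∈ Cs)
    {a : α} (hac : a ∈ c.1 :: c.2) (had : a ∈ d.1 :: d.2) : c = d := by
  by_contra hne
  haveI : Std.Symm (Function.onFun List.Disjoint fun c : α × List α => c.1 :: c.2) := ⟨fun _ _ h => h.symm⟩
  exact (List.nodup_flatMap.1 h).2.forall hc hd hne hac had

theorem push3 (π : Perm α) (a b c d e f : α) :
    π * (swap a b * (swap c d * swap e f)) = swap (π a) (π b) * (swap (π c) (π d) * swap (π e) (π f)) * π := by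
  rw [← mul_assoc π (swap a b), mul_swap_eq_swap_mul π, mul_assoc (swap (π a) (π b)), ← mul_assoc π (swap c d),
    mul_swap_eq_swap_mul π, mul_assoc (swap (π c) (π d)), mul_swap_eq_swap_mul π]
  simp only [mul_assoc]

variable [Fintype α]

/-- From a long cycle `P * t` to a good pair. -/
theorem good_of_cycle {p : ℕ} (hp : p.Prime) (h2 : 2 ≤ Fintype.card α) {P t : Perm α}
    (hc : CycOn (P * t) Finset.univ) (ht : NP p t)
    (hns : ∀ S : Subgroup (Perm α), P ∈ S → t ∈ S → ¬ Group.IsSolvable ↥S) :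
    (P * t)⁻¹.cycleType = {Fintype.card α} ∧ Good p P (P * t)⁻¹ := by
  refine ⟨by rw [Perm.cycleType_inv, hc.cycleType h2], ?_, ?_⟩
  · refine NP.of_map hp (MulAut.conj P⁻¹).toMonoidHom ?_
    rintro ⟨k, hk⟩
    refine ht ⟨k, ?_⟩
    simpa [mul_assoc] using hk
  · have hP : P ∈ Subgroup.closure ({P, (P * t)⁻¹} : Set (Perm α)) := Subgroup.subset_closure (Or.inl rfl)
    refine hns _ hP ?_
    have hQ : (P * t)⁻¹ ∈ Subgroup.closure ({P, (P * t)⁻¹} : Set (Perm α)) := Subgroup.subset_closure (Or.inr rfl)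
    simpa [← mul_assoc] using mul_mem (inv_mem hP) (inv_mem hQ)

/-- One cycle and at least two fixed points. -/
theorem config_plain {p : ℕ} (hp : p.Prime) {r r' r'' f₁ f₂ : α} {la F : List α}
    (hn : ((r :: r' :: r'' :: la) ++ (f₁ :: f₂ :: F)).Nodup)
    (hu : ((r :: r' :: r'' :: la) ++ (f₁ :: f₂ :: F)).toFinset = Finset.univ) (hk : ¬ p ∣ F.length + 3) :
    ∃ Q : Perm α, Q.cycleType = {Fintype.card α} ∧ Good p (formPerm (r :: r' :: r'' :: la)) Q := by
  obtain ⟨hA, hF, hdis⟩ := List.nodup_append.1 hn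
  set fs := f₁ :: f₂ :: F with hfs
  set P := formPerm (r :: r' :: r'' :: la) with hP
  have hcard : 2 ≤ Fintype.card α := by
    rw [← Finset.card_univ, ← hu, List.toFinset_card_of_nodup hn]; simp
  obtain ⟨s1, s2, s3⟩ := singles_facts fs
  have hc := chain (singles fs) P _ r (cycOn_formPerm hA) (by simp) (by rw [s2]; exact hF)
    (fun z hz hz' => hdis z (List.mem_toFinset.1 hz') z (s2 ▸ hz) rfl)
  rw [s1, s2, s3, mul_one, ← List.toFinset_append, hu] at hc
  have hrfs : (r :: fs).Nodup := List.nodup_cons.2 ⟨fun h => hdis r (by simp) r h rfl, hF⟩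
  have ht : NP p (formPerm (r :: fs)) := by
    refine np_of_pow hp (m := (r :: fs).length) (formPerm_pow_length_eq_one_of_nodup _ hrfs) (by simpa [hfs] using hk) ?_
    rw [Ne, formPerm_eq_one_iff _ hrfs]
    simp [hfs]
  refine ⟨_, good_of_cycle hp hcard hc ht (fun S hPS htS => ?_)⟩
  have hPr : P r = r' := formPerm_apply_head _ _ _ hA
  have hPr' : P r' = r'' := by
    rw [hP, formPerm_cons_cons, Perm.mul_apply, formPerm_apply_head _ _ _ (List.nodup_cons.1 hA).2,
      swap_apply_of_ne_of_ne] <;>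
    · intro e; subst e; simp at hA
  have hfix : ∀ z ∈ fs, P z = z := fun z hz => formPerm_apply_of_notMem fun h => hdis z h z hz rfl
  set ω := formPerm fs with hω
  have hωP : ω * P = P * ω := commute_of_fix fun z hz => hfix z (formPerm_mem_of_ne hz)
  have ht : formPerm (r :: fs) = swap r f₁ * ω := formPerm_cons_cons r f₁ _
  have ht' : P * formPerm (r :: fs) * P⁻¹ = swap r' f₁ * ω := by
    have hωc : P * ω * P⁻¹ = ω := by rw [← hωP, mul_inv_cancel_right]
    rw [ht, show P * (swap r f₁ * ω) * P⁻¹ = (P * swap r f₁ * P⁻¹) * (P * ω * P⁻¹) by group, conj_swap, hωc, hPr,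
      hfix f₁ (by simp [hfs])]
  set E := swap r f₁ * swap r' f₁ with hE
  have hEt : E = formPerm (r :: fs) * (P * formPerm (r :: fs) * P⁻¹)⁻¹ := by
    rw [ht', ht, hE]; simp [mul_assoc, swap_inv]
  have hES : E ∈ S := by rw [hEt]; exact mul_mem htS (inv_mem (mul_mem (mul_mem hPS htS) (inv_mem hPS)))
  have hne : [r, f₁, r', f₂, r''].Nodup := by
    simp [hfs] at hn ⊢
    grind
  have h1 : cyc3 r f₁ r' ∈ S := by
    rw [cyc3, Equiv.swap_comm f₁ r']; exact hES
  refine not_solvable_five hne h1 ?_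
  have hE' : P * E * P⁻¹ = swap r' f₁ * swap r'' f₁ := by
    have hsp : ∀ a b : Perm α, P * (a * b) * P⁻¹ = (P * a * P⁻¹) * (P * b * P⁻¹) := fun a b => by group
    rw [hE, hsp, conj_swap, conj_swap, hPr, hPr', hfix f₁ (by simp [hfs])]
  set ω₂ := formPerm (f₂ :: F) with hω₂
  have hω₂f : ∀ z, z ∈ [f₁, r', r''] → ω₂ z = z := by
    intro z hz
    refine formPerm_apply_of_notMem fun h => ?_
    simp [hfs] at hn hz h
    grind
  have hcm : ω₂ * (P * E * P⁻¹) = (P * E * P⁻¹) * ω₂ := by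
    rw [hE', ← mul_assoc, ← swap_mul_comm (hω₂f r' (by simp)) (hω₂f f₁ (by simp)), mul_assoc,
      ← swap_mul_comm (hω₂f r'' (by simp)) (hω₂f f₁ (by simp)), mul_assoc]
  have hmem : formPerm (r :: fs) * (P * E * P⁻¹) * (formPerm (r :: fs))⁻¹ ∈ S :=
    mul_mem (mul_mem htS (mul_mem (mul_mem hPS hES) (inv_mem hPS))) (inv_mem htS)
  have hform : formPerm (r :: fs) = swap r f₁ * swap f₁ f₂ * ω₂ := by
    rw [hfs, formPerm_cons_cons, formPerm_cons_cons, mul_assoc]
  rw [hform, show swap r f₁ * swap f₁ f₂ * ω₂ * (P * E * P⁻¹) * (swap r f₁ * swap f₁ f₂ * ω₂)⁻¹ =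
      swap r f₁ * swap f₁ f₂ * (ω₂ * (P * E * P⁻¹) * ω₂⁻¹) * (swap r f₁ * swap f₁ f₂)⁻¹ by group, hcm,
    mul_inv_cancel_right, hE'] at hmem
  have hm : swap (0 : Fin 5) 1 * swap 1 3 * (swap 2 1 * swap 4 1) * (swap (0 : Fin 5) 1 * swap 1 3)⁻¹ =
      cyc3 2 3 4 := by decide
  have := congrArg (tr (emb [r, f₁, r', f₂, r''] hne)) hm
  simp only [map_mul, map_inv, tr_swap, tr_cyc3] at this
  exact this ▸ hmem

set_option maxRecDepth 20000 in
/-- Several cycles and at least three fixed points. -/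
theorem config_fixed {p : ℕ} (hp : p.Prime) (hodd : Odd p) {x₀ x₁ x₂ f₀ f₁ f₂ y₀ y₀' : α} {la ly F : List α}
    {Ys : List (α × List α)} (hYs : ∀ c ∈ Ys, c.2 ≠ [])
    (hn : ((x₀ :: x₁ :: x₂ :: la) ++ pts ((y₀, y₀' :: ly) :: Ys) ++ (f₀ :: f₁ :: f₂ :: F)).Nodup)
    (hu : ((x₀ :: x₁ :: x₂ :: la) ++ pts ((y₀, y₀' :: ly) :: Ys) ++ (f₀ :: f₁ :: f₂ :: F)).toFinset = Finset.univ) :
    ∃ Q : Perm α, Q.cycleType = {Fintype.card α} ∧
      Good p (formPerm (x₀ :: x₁ :: x₂ :: la) * prodCyc ((y₀, y₀' :: ly) :: Ys)) Q := by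
  set Cs := (y₀, y₀' :: ly) :: Ys with hCs
  set A := x₀ :: x₁ :: x₂ :: la with hA
  obtain ⟨hAY, hF, hd2⟩ := List.nodup_append.1 hn
  obtain ⟨hAn, hY, hd1⟩ := List.nodup_append.1 hAY
  have hcard : 2 ≤ Fintype.card α := by
    rw [← Finset.card_univ, ← hu, List.toFinset_card_of_nodup hn]; simp [hA]
  have dA : ∀ z ∈ A, z ∉ pts Cs ∧ z ∉ f₀ :: f₁ :: f₂ :: F := fun z hz =>
    ⟨fun h => hd1 z hz z h rfl, fun h => hd2 z (List.mem_append_left _ hz) z h rfl⟩
  have dY : ∀ z ∈ pts Cs, z ∉ f₀ :: f₁ :: f₂ :: F := fun z hz h => hd2 z (List.mem_append_right _ hz) z h rfl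
  have hf0 := List.nodup_cons.1 hF
  set Y := Cs.map Prod.fst with hYdef
  set G := f₁ :: f₂ :: F with hGdef
  have hYsub : ∀ z ∈ Y, z ∈ pts Cs := fun z hz => by
    obtain ⟨c, hc, rfl⟩ := List.mem_map.1 hz
    exact List.mem_flatMap.2 ⟨c, hc, by simp⟩
  obtain ⟨s1, s2, s3⟩ := singles_facts G
  -- the long cycle
  have hm := merge (cycOn_formPerm hAn) (cycOn_singleton f₀)
    (Finset.disjoint_singleton_right.2 fun h => (dA f₀ (List.mem_toFinset.1 h)).2 (by simp))
    (a := x₀) (y := f₀) (by simp [hA]) (by simp)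
  have hc := chain (Cs ++ singles G) _ _ x₁ hm (Finset.mem_union_left _ (by simp [hA]))
    (by rw [pts_append, s2]; exact List.nodup_append.2 ⟨hY, hf0.2, fun z hz w hw e => dY z hz (by subst e; simp [hw])⟩)
    (by
      rw [pts_append, s2]
      intro z hz hz'
      rcases Finset.mem_union.1 hz' with h | h
      · rcases List.mem_append.1 hz with h' | h'
        · exact (dA z (List.mem_toFinset.1 h)).1 h'
        · exact (dA z (List.mem_toFinset.1 h)).2 (by simp [h'])
      · rw [Finset.mem_singleton] at h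
        subst h
        rcases List.mem_append.1 hz with h' | h'
        · exact dY _ h' (by simp)
        · exact hf0.1 h')
  rw [mul_one, prodCyc_append, s1, mul_one, List.map_append, s3, pts_append, s2] at hc
  have hS : A.toFinset ∪ {f₀} ∪ (pts Cs ++ G).toFinset = Finset.univ := by
    rw [← hu]
    ext z
    simp only [Finset.mem_union, Finset.mem_singleton, List.mem_toFinset, List.mem_append, hGdef,
      List.mem_cons (a := z) (b := f₀)]
    tauto
  rw [hS] at hc
  set φ := formPerm (x₁ :: (Y ++ G)) with hφ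
  set s₀ := swap x₀ f₀ with hs₀
  set P := formPerm A * prodCyc Cs with hP
  have hcs : s₀ * prodCyc Cs = prodCyc Cs * s₀ :=
    swap_mul_comm (prodCyc_fix (dA x₀ (by simp [hA])).1) (prodCyc_fix fun h => dY f₀ h (by simp))
  rw [show formPerm A * s₀ * prodCyc Cs * φ = P * (s₀ * φ) by
    rw [mul_assoc (formPerm A), hcs, hP]; simp only [mul_assoc]] at hc
  have hφfix : ∀ z, z ∈ [x₀, f₀] → φ z = z := by
    intro z hz
    refine formPerm_apply_of_notMem ?_
    simp only [List.mem_cons, List.not_mem_nil, or_false] at hz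
    simp only [List.mem_cons, List.mem_append, not_or]
    rcases hz with rfl | rfl
    · refine ⟨fun e => ?_, fun h => (dA z (by simp [hA])).1 (hYsub z h), fun h => (dA z (by simp [hA])).2 (by simp [h])⟩
      subst e; simp [hA] at hAn
    · exact ⟨fun e => (dA x₁ (by simp [hA])).2 (by simp [e]), fun h => dY z (hYsub z h) (by simp), hf0.1⟩
  have hne0 : x₀ ≠ f₀ := fun e => (dA x₀ (by simp [hA])).2 (by simp [e])
  have ht : NP p (s₀ * φ) := np_of_swap hodd (x := x₀) (z := f₀)
    (by rw [Perm.mul_apply, hφfix x₀ (by simp), hs₀, swap_apply_left])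
    (by rw [Perm.mul_apply, hφfix f₀ (by simp), hs₀, swap_apply_right]) hne0
  refine ⟨_, good_of_cycle hp hcard hc ht (fun S hPS htS => ?_)⟩
  -- the images under `P`
  have hPA : ∀ z ∈ A, P z = formPerm A z := fun z hz => by rw [hP, Perm.mul_apply, prodCyc_fix (dA z hz).1]
  have hP0 : P x₀ = x₁ := by rw [hPA x₀ (by simp [hA]), hA]; exact formPerm_apply_head _ _ _ hAn
  have hP1 : P x₁ = x₂ := by
    rw [hPA x₁ (by simp [hA]), hA, formPerm_cons_cons, Perm.mul_apply,
      formPerm_apply_head _ _ _ (List.nodup_cons.1 hAn).2, swap_apply_of_ne_of_ne] <;>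
    · intro e; subst e; simp [hA] at hAn
  have hPf : ∀ z ∈ f₀ :: G, P z = z := fun z hz => by
    rw [hP, Perm.mul_apply, prodCyc_fix fun h => dY z h hz,
      formPerm_apply_of_notMem fun h => (dA z h).2 hz]
  have hPh : ∀ c ∈ Cs, ∀ y' l, c.2 = y' :: l → P c.1 = y' := fun c hc' y' l e => by
    have hy' : y' ∈ pts Cs := List.mem_flatMap.2 ⟨c, hc', by simp [e]⟩
    rw [hP, Perm.mul_apply, prodCyc_head hY (y := c.1) (y' := y') (l := l) (by rw [← e]; exact hc')]
    exact formPerm_apply_of_notMem fun h => (dA y' h).1 hy'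
  have hPy : P y₀ = y₀' := hPh (y₀, y₀' :: ly) (by simp [hCs]) _ _ rfl
  have hheads : ∀ z ∈ Y, P z ∈ pts Cs ∧ P z ∉ Y := by
    intro z hz
    obtain ⟨c, hc', rfl⟩ := List.mem_map.1 hz
    obtain ⟨y', l, e⟩ : ∃ y' l, c.2 = y' :: l := by
      cases h : c.2 with
      | nil =>
        exfalso
        rcases List.mem_cons.1 hc' with rfl | h'
        · simp at h
        · exact hYs c h' h
      | cons y' l => exact ⟨y', l, rfl⟩
    rw [hPh c hc' y' l e]
    refine ⟨List.mem_flatMap.2 ⟨c, hc', by simp [e]⟩, fun h => ?_⟩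
    obtain ⟨d, hd, hde⟩ := List.mem_map.1 h
    obtain ⟨hin, hpw⟩ := List.nodup_flatMap.1 hY
    by_cases hcd : c = d
    · subst hcd
      have := hin c hc'
      rw [e, hde] at this
      simp at this
    · exact hcd (eq_of_shared hY hc' hd (a := y') (by simp [e]) (by simp [hde]))
  set η := formPerm Y with hη
  set η' := P * η * P⁻¹ with hη'
  set ω := formPerm G with hω
  set K := swap x₁ y₀ * swap y₀ f₁ with hK
  have hYe : Y = y₀ :: Ys.map Prod.fst := by simp [hYdef, hCs]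
  have hηY : ∀ z, η z ≠ z → z ∈ Y := fun z hz => formPerm_mem_of_ne hz
  have hη'Y : ∀ z, η' z ≠ z → ∃ w ∈ Y, P w = z := by
    intro z hz
    refine ⟨P⁻¹ z, hηY _ fun e => hz ?_, by simp⟩
    show P (η (P⁻¹ z)) = z
    rw [e]; simp
  have hωG : ∀ z, ω z ≠ z → z ∈ G := fun z hz => formPerm_mem_of_ne hz
  have hYn : Y.Nodup := by
    rw [hYdef, List.nodup_map_iff_inj_on]
    · intro a ha b hb hab
      exact eq_of_shared hY ha hb (a := a.1) (by simp) (by simp [hab])
    · exact ((List.nodup_flatMap.1 hY).2.imp_of_mem fun {a b} _ _ h e => h (a := a.1) (by simp) (by simp [e]))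
  have hφK : φ = K * η * ω := by
    rw [hφ, hGdef, ← List.cons_append, formPerm_append', hω]
    congr 1
    rw [hYe]
    simp only [List.cons_append]
    rw [formPerm_cons_cons, hK, mul_assoc]
    congr 1
    obtain ⟨k, b, hkb⟩ : ∃ k b, Y = k ++ [b] :=
      ⟨Y.dropLast, Y.getLast (by simp [hYe]), (List.dropLast_append_getLast (by simp [hYe])).symm⟩
    have hlast : η b = y₀ := by
      have h := formPerm_apply_getLast y₀ (Ys.map Prod.fst)
      rw [hη, hYe]
      have hb : (y₀ :: Ys.map Prod.fst).getLast (List.cons_ne_nil _ _) = b := by simp [← hYe, hkb]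
      rw [← hb]; exact h
    have hf1 : η f₁ = f₁ := formPerm_apply_of_notMem fun h => dY f₁ (hYsub _ h) (by simp [hGdef])
    rw [show y₀ :: (Ys.map Prod.fst ++ [f₁]) = Y ++ [f₁] by rw [hYe]; rfl, hkb, List.append_assoc,
      List.singleton_append, formPerm_append_pair, ← hkb, ← hη, mul_swap_eq_swap_mul, hlast, hf1]
  -- distinctness
  have hne8 : [x₀, x₁, x₂, f₀, f₁, f₂, y₀, y₀'].Nodup := by
    have hy : y₀' ∈ pts Cs := by simp [hCs, pts]
    have hy0 : y₀ ∈ pts Cs := by simp [hCs, pts]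
    have hyy : y₀ ≠ y₀' := by
      intro e
      have := hY
      simp [hCs, pts, e] at this
    simp [hA] at hAn
    simp [hGdef] at hF
    simp only [List.nodup_cons, List.mem_cons, List.not_mem_nil, or_false, not_or, not_false_eq_true,
      List.nodup_nil, and_true]
    have a0 := dA x₀ (by simp [hA]); have a1 := dA x₁ (by simp [hA]); have a2 := dA x₂ (by simp [hA])
    have b0 := dY y₀ hy0; have b1 := dY y₀' hy
    simp [hGdef] at a0 a1 a2 b0 b1
    grind
  set f := emb [x₀, x₁, x₂, f₀, f₁, f₂, y₀, y₀'] hne8 with hf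
  have hy0Y : y₀ ∈ Y := by simp [hYe]
  -- commutation of the long parts with the short ones
  have hωf : ∀ z, z ∈ [x₀, x₁, x₂, f₀, y₀, y₀'] → ω z = z := by
    intro z hz
    refine formPerm_apply_of_notMem fun h => ?_
    simp only [List.mem_cons, List.not_mem_nil, or_false] at hz
    rcases hz with rfl | rfl | rfl | rfl | rfl | rfl
    · exact (dA z (by simp [hA])).2 (by simp [h])
    · exact (dA z (by simp [hA])).2 (by simp [h])
    · exact (dA z (by simp [hA])).2 (by simp [h])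
    · exact hf0.1 h
    · exact dY z (hYsub _ hy0Y) (by simp [h])
    · exact dY z (by simp [hCs, pts]) (by simp [h])
  have hηf : ∀ z, z ∈ [x₀, x₁, x₂, f₀, f₁, f₂, y₀'] → η z = z := by
    intro z hz
    refine formPerm_apply_of_notMem fun h => ?_
    simp only [List.mem_cons, List.not_mem_nil, or_false] at hz
    rcases hz with rfl | rfl | rfl | rfl | rfl | rfl | rfl
    · exact (dA z (by simp [hA])).1 (hYsub _ h)
    · exact (dA z (by simp [hA])).1 (hYsub _ h)
    · exact (dA z (by simp [hA])).1 (hYsub _ h)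
    · exact dY z (hYsub _ h) (by simp)
    · exact dY z (hYsub _ h) (by simp [hGdef])
    · exact dY z (hYsub _ h) (by simp [hGdef])
    · exact (hheads y₀ hy0Y).2 (hPy ▸ h)
  have hη'f : ∀ z, z ∈ [x₀, x₁, x₂, f₀, f₁, f₂, y₀] → η' z = z := by
    intro z hz
    by_contra h
    obtain ⟨w, hw, rfl⟩ := hη'Y z h
    obtain ⟨hw1, hw2⟩ := hheads w hw
    simp only [List.mem_cons, List.not_mem_nil, or_false] at hz
    rcases hz with e | e | e | e | e | e | e <;> rw [e] at hw1 hw2
    · exact (dA x₀ (by simp [hA])).1 hw1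
    · exact (dA x₁ (by simp [hA])).1 hw1
    · exact (dA x₂ (by simp [hA])).1 hw1
    · exact dY f₀ hw1 (by simp)
    · exact dY f₁ hw1 (by simp [hGdef])
    · exact dY f₂ hw1 (by simp [hGdef])
    · exact hw2 hy0Y
  have hηη' : η * η' = η' * η := commute_of_fix fun z hz => by
    by_contra h
    obtain ⟨w, hw, rfl⟩ := hη'Y z h
    exact (hheads w hw).2 (hηY _ hz)
  have hωη : ω * η = η * ω := commute_of_fix fun z hz =>
    formPerm_apply_of_notMem fun h => dY z (hYsub _ h) (List.mem_cons_of_mem _ (hωG z hz))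
  have hωη' : ω * η' = η' * ω := commute_of_fix fun z hz => by
    by_contra h
    obtain ⟨w, hw, rfl⟩ := hη'Y z h
    exact dY _ (hheads w hw).1 (List.mem_cons_of_mem _ (hωG _ hz))
  have hωP : ω * P = P * ω := commute_of_fix fun z hz => hPf z (List.mem_cons_of_mem _ (hωG z hz))
  set K' := swap x₂ y₀' * swap y₀' f₁ with hK'
  set s₁ := swap x₁ f₀ with hs₁
  have hconj : P * (s₀ * φ) * P⁻¹ = s₁ * K' * η' * ω := by
    have hsp : ∀ a b : Perm α, P * (a * b) * P⁻¹ = (P * a * P⁻¹) * (P * b * P⁻¹) := fun a b => by group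
    rw [hφK, hK, hs₀, hsp, hsp, hsp, hsp, conj_swap, conj_swap, conj_swap, hP0, hP1, hPy, hPf f₀ (by simp),
      hPf f₁ (by simp [hGdef]), ← hη', ← hωP, mul_inv_cancel_right, hs₁, hK']
    simp only [mul_assoc]
  have hω1 : ω f₁ = f₂ := by rw [hω, hGdef]; exact formPerm_apply_head _ _ _ hf0.2
  set K₂ := swap x₁ y₀ * swap y₀ f₂ with hK₂
  set K'₂ := swap x₂ y₀' * swap y₀' f₂ with hK'₂
  have c1 : ω * (s₁ * K') = s₁ * K'₂ * ω := by
    rw [hs₁, hK', hK'₂, push3, hωf x₁ (by simp), hωf f₀ (by simp), hωf x₂ (by simp), hωf y₀' (by simp), hω1]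
  have c2 : ω * (s₀ * K) = s₀ * K₂ * ω := by
    rw [hs₀, hK, hK₂, push3, hωf x₀ (by simp), hωf f₀ (by simp), hωf x₁ (by simp), hωf y₀ (by simp), hω1]
  have c3 : η * (s₁ * K'₂) = s₁ * K'₂ * η := by
    rw [hs₁, hK'₂, push3, hηf x₁ (by simp), hηf f₀ (by simp), hηf x₂ (by simp), hηf y₀' (by simp), hηf f₂ (by simp)]
  have c4 : η' * (s₀ * K₂) = s₀ * K₂ * η' := by
    rw [hs₀, hK₂, push3, hη'f x₀ (by simp), hη'f f₀ (by simp), hη'f x₁ (by simp), hη'f y₀ (by simp), hη'f f₂ (by simp)]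
  set T := s₀ * φ with hT
  set T₁ := P * T * P⁻¹ with hT₁
  set C := (s₀ * K * s₁ * K'₂) * (s₁ * K' * s₀ * K₂)⁻¹ with hC
  have hTT : T * T₁ * T⁻¹ * T₁⁻¹ = C := by
    have e1 : T * T₁ = s₀ * K * s₁ * K'₂ * (η * η' * ω * ω) := by
      rw [hconj, hT, hφK, show s₀ * (K * η * ω) * (s₁ * K' * η' * ω) = s₀ * K * η * (ω * (s₁ * K')) * η' * ω by
        simp only [mul_assoc], c1, show s₀ * K * η * (s₁ * K'₂ * ω) * η' * ω =
          s₀ * K * (η * (s₁ * K'₂)) * (ω * η') * ω by simp only [mul_assoc], c3, hωη']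
      simp only [mul_assoc]
    have e2 : T₁ * T = s₁ * K' * s₀ * K₂ * (η * η' * ω * ω) := by
      rw [hconj, hT, hφK, show s₁ * K' * η' * ω * (s₀ * (K * η * ω)) = s₁ * K' * η' * (ω * (s₀ * K)) * η * ω by
        simp only [mul_assoc], c2, show s₁ * K' * η' * (s₀ * K₂ * ω) * η * ω =
          s₁ * K' * (η' * (s₀ * K₂)) * (ω * η) * ω by simp only [mul_assoc], c4, hωη, hηη']
      simp only [mul_assoc]
    calc T * T₁ * T⁻¹ * T₁⁻¹ = (T * T₁) * (T₁ * T)⁻¹ := by group
      _ = C := by rw [e1, e2, hC]; group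
  have hCS : C ∈ S := by
    rw [← hTT]
    have h1 : T₁ ∈ S := mul_mem (mul_mem hPS htS) (inv_mem hPS)
    exact mul_mem (mul_mem (mul_mem htS h1) (inv_mem htS)) (inv_mem h1)
  have hm1 : ((swap (0 : Fin 8) 3 * (swap 1 6 * swap 6 4) * swap 1 3 * (swap 2 7 * swap 7 5)) *
      (swap (1 : Fin 8) 3 * (swap 2 7 * swap 7 4) * swap 0 3 * (swap 1 6 * swap 6 5))⁻¹) ^ 4 = cyc3 1 3 2 := by
    decide
  have h1 : cyc3 x₁ f₀ x₂ ∈ S := by
    have := congrArg (tr f) hm1
    simp only [map_mul, map_inv, map_pow, tr_swap, tr_cyc3] at this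
    exact this ▸ pow_mem hCS 4
  have hcX : (η * ω) * cyc3 x₁ f₀ x₂ = cyc3 x₁ f₀ x₂ * (η * ω) := by
    have hfix : ∀ z, z ∈ [x₁, f₀, x₂] → (η * ω) z = z := by
      intro z hz
      simp only [List.mem_cons, List.not_mem_nil, or_false] at hz
      rw [Perm.mul_apply, hωf z (by rcases hz with rfl | rfl | rfl <;> simp),
        hηf z (by rcases hz with rfl | rfl | rfl <;> simp)]
    rw [cyc3, ← mul_assoc, ← swap_mul_comm (hfix x₁ (by simp)) (hfix f₀ (by simp)), mul_assoc,
      ← swap_mul_comm (hfix f₀ (by simp)) (hfix x₂ (by simp))]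
    simp only [mul_assoc]
  have h2 : cyc3 x₂ y₀ x₀ ∈ S := by
    have hmem := mul_mem (mul_mem htS h1) (inv_mem htS)
    rw [hT, hφK, show s₀ * (K * η * ω) * cyc3 x₁ f₀ x₂ * (s₀ * (K * η * ω))⁻¹ =
      s₀ * K * ((η * ω) * cyc3 x₁ f₀ x₂ * (η * ω)⁻¹) * (s₀ * K)⁻¹ by group, hcX, mul_inv_cancel_right] at hmem
    have hm2 : swap (0 : Fin 8) 3 * (swap 1 6 * swap 6 4) * cyc3 1 3 2 *
        (swap (0 : Fin 8) 3 * (swap 1 6 * swap 6 4))⁻¹ = cyc3 2 6 0 := by decide
    have := congrArg (tr f) hm2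
    simp only [map_mul, map_inv, tr_swap, tr_cyc3] at this
    exact this ▸ hmem
  refine not_solvable_five (a := x₁) (b := f₀) (c := x₂) (d := y₀) (e := x₀) ?_ h1 h2
  simp only [List.nodup_cons, List.mem_cons, List.not_mem_nil, or_false, not_or, not_false_eq_true,
    List.nodup_nil, and_true] at hne8 ⊢
  grind

end Cfsg.Agent.Lib.AltPPair
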