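import Cfsg.Agent.Lib.AltPPair.Configs

/-!
The configurations without fixed points, and two cycles of the same length.
-/

set_option autoImplicit false

namespace Cfsg.Agent.Lib.AltPPair

open Equiv
open List (formPerm formPerm_cons_cons formPerm_apply_of_notMem formPerm_apply_head formPerm_apply_getLast
  formPerm_append_pair formPerm_pow_length_eq_one_of_nodup formPerm_eq_one_iff)

variable {α : Type*} [DecidableEq α]

theorem push2 (π : Perm α) (a b c d : α) :
    π * (swap a b * swap c d) = swap (π a) (π b) * swap (π c) (π d) * π := by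
  rw [← mul_assoc π (swap a b), mul_swap_eq_swap_mul π, mul_assoc (swap (π a) (π b)), mul_swap_eq_swap_mul π,
    mul_assoc]

theorem heads_facts {Cs : List (α × List α)} (hY : (pts Cs).Nodup) (hne : ∀ c ∈ Cs, c.2 ≠ []) :
    (Cs.map Prod.fst).Nodup ∧ ∀ z ∈ Cs.map Prod.fst, prodCyc Cs z ∈ pts Cs ∧ prodCyc Cs z ∉ Cs.map Prod.fst := by
  refine ⟨?_, fun z hz => ?_⟩
  · rw [List.nodup_map_iff_inj_on]
    · intro a ha b hb hab
      exact eq_of_shared hY ha hb (a := a.1) (by simp) (by simp [hab])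
    · exact ((List.nodup_flatMap.1 hY).2.imp_of_mem fun {a b} _ _ h e => h (a := a.1) (by simp) (by simp [e]))
  · obtain ⟨c, hc, rfl⟩ := List.mem_map.1 hz
    obtain ⟨y', l, e⟩ : ∃ y' l, c.2 = y' :: l := by
      cases h : c.2 with
      | nil => exact absurd h (hne c hc)
      | cons y' l => exact ⟨y', l, rfl⟩
    rw [prodCyc_head hY (y := c.1) (y' := y') (l := l) (by rw [← e]; exact hc)]
    refine ⟨List.mem_flatMap.2 ⟨c, hc, by simp [e]⟩, fun h => ?_⟩
    obtain ⟨d, hd, hde⟩ := List.mem_map.1 h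
    obtain rfl := eq_of_shared hY hc hd (a := y') (by simp [e]) (by simp [hde])
    have := (List.nodup_flatMap.1 hY).1 c hc
    rw [e, hde] at this
    simp at this

variable [Fintype α]

set_option maxRecDepth 20000 in
/-- At least five cycles and no fixed point. -/
theorem config_free {p : ℕ} (hp : p.Prime) (hodd : Odd p) {x₀ x₁ x₂ z z' l₀ l₀' l₁ l₂ : α}
    {la lz m₀ m₁ m₂ : List α} {Ls : List (α × List α)} (hm : m₁ ≠ [] ∧ m₂ ≠ [] ∧ ∀ c ∈ Ls, c.2 ≠ [])
    (hn : ((x₀ :: x₁ :: x₂ :: la) ++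
      pts ((z, z' :: lz) :: (l₀, l₀' :: m₀) :: (l₁, m₁) :: (l₂, m₂) :: Ls)).Nodup)
    (hu : ((x₀ :: x₁ :: x₂ :: la) ++
      pts ((z, z' :: lz) :: (l₀, l₀' :: m₀) :: (l₁, m₁) :: (l₂, m₂) :: Ls)).toFinset = Finset.univ) :
    ∃ Q : Perm α, Q.cycleType = {Fintype.card α} ∧ Good p (formPerm (x₀ :: x₁ :: x₂ :: la) *
      prodCyc ((z, z' :: lz) :: (l₀, l₀' :: m₀) :: (l₁, m₁) :: (l₂, m₂) :: Ls)) Q := by
  obtain ⟨hm1, hm2, hLs⟩ := hm
  set Rs := (l₀, l₀' :: m₀) :: (l₁, m₁) :: (l₂, m₂) :: Ls with hRs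
  set D := (z, z' :: lz) :: Rs with hD
  set A := x₀ :: x₁ :: x₂ :: la with hA
  obtain ⟨hAn, hDn, hd⟩ := List.nodup_append.1 hn
  have hcard : 2 ≤ Fintype.card α := by
    rw [← Finset.card_univ, ← hu, List.toFinset_card_of_nodup hn]; simp [hA]
  have dA : ∀ w ∈ A, w ∉ pts D := fun w hw h => hd w hw w h rfl
  have hne : ∀ c ∈ D, c.2 ≠ [] := by
    intro c hc
    simp only [hD, hRs, List.mem_cons] at hc
    rcases hc with rfl | rfl | rfl | rfl | hc
    · simp
    · simp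
    · exact hm1
    · exact hm2
    · exact hLs c hc
  obtain ⟨hhn, hhD⟩ := heads_facts hDn hne
  set Y := Rs.map Prod.fst with hYdef
  have hDY : D.map Prod.fst = z :: Y := by simp [hD, hYdef]
  rw [hDY] at hhn hhD
  have hYsub : ∀ w ∈ z :: Y, w ∈ pts D := fun w hw => by
    rw [← hDY] at hw
    obtain ⟨c, hc, rfl⟩ := List.mem_map.1 hw
    exact List.mem_flatMap.2 ⟨c, hc, by simp⟩
  have hDn' : ((z :: z' :: lz) ++ pts Rs).Nodup := by simpa [hD, pts] using hDn
  obtain ⟨hZn, hRn, hdZ⟩ := List.nodup_append.1 hDn'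
  have hsubZ : ∀ w ∈ z :: z' :: lz, w ∈ pts D := fun w hw => List.mem_flatMap.2 ⟨(z, z' :: lz), by simp [hD], hw⟩
  have hsubR : ∀ w ∈ pts Rs, w ∈ pts D := fun w hw => by
    obtain ⟨c, hc, hwc⟩ := List.mem_flatMap.1 hw
    exact List.mem_flatMap.2 ⟨c, List.mem_cons_of_mem _ hc, hwc⟩
  -- the long cycle
  have hm' := merge (cycOn_formPerm hAn) (cycOn_formPerm hZn)
    (Finset.disjoint_left.2 fun w hw hw' => dA w (List.mem_toFinset.1 hw) (hsubZ w (List.mem_toFinset.1 hw')))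
    (a := x₀) (y := z) (by simp [hA]) (by simp)
  have hc := chain Rs _ _ x₁ hm' (Finset.mem_union_left _ (by simp [hA])) hRn (by
    intro w hw hw'
    rcases Finset.mem_union.1 hw' with h | h
    · exact dA w (List.mem_toFinset.1 h) (hsubR w hw)
    · exact hdZ w (List.mem_toFinset.1 h) w hw rfl)
  have hS : A.toFinset ∪ (z :: z' :: lz).toFinset ∪ (pts Rs).toFinset = Finset.univ := by
    rw [← hu, List.toFinset_append, show pts D = (z :: z' :: lz) ++ pts Rs by simp [hD, pts], List.toFinset_append,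
      Finset.union_assoc]
  rw [hS] at hc
  set φ := formPerm (x₁ :: Y) with hφ
  set s₀ := swap x₀ z with hs₀
  set P := formPerm A * prodCyc D with hP
  have hcs : s₀ * prodCyc Rs = prodCyc Rs * s₀ :=
    swap_mul_comm (prodCyc_fix fun h => dA x₀ (by simp [hA]) (hsubR _ h))
      (prodCyc_fix fun h => hdZ z (by simp) z h rfl)
  rw [show formPerm A * formPerm (z :: z' :: lz) * s₀ * prodCyc Rs * φ = P * (s₀ * φ) by
    rw [mul_assoc (formPerm A * formPerm (z :: z' :: lz)), hcs, hP, show prodCyc D = formPerm (z :: z' :: lz) *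
      prodCyc Rs by simp [hD, prodCyc]]
    simp only [mul_assoc]] at hc
  have hx01 : x₀ ≠ x₁ := by rintro rfl; simp [hA] at hAn
  have hne0 : x₀ ≠ z := fun e => dA x₀ (by simp [hA]) (e ▸ hsubZ z (by simp))
  have hφfix : ∀ w, w ∈ [x₀, z] → φ w = w := by
    intro w hw
    refine formPerm_apply_of_notMem ?_
    simp only [List.mem_cons, List.not_mem_nil, or_false] at hw
    simp only [List.mem_cons, not_or]
    rcases hw with rfl | rfl
    · exact ⟨hx01, fun h => dA w (by simp [hA]) (hYsub w (by simp [h]))⟩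
    · exact ⟨fun e => dA x₁ (by simp [hA]) (e ▸ hsubZ w (by simp)), (List.nodup_cons.1 hhn).1⟩
  have ht : NP p (s₀ * φ) := np_of_swap hodd (x := x₀) (z := z)
    (by rw [Perm.mul_apply, hφfix x₀ (by simp), hs₀, swap_apply_left])
    (by rw [Perm.mul_apply, hφfix z (by simp), hs₀, swap_apply_right]) hne0
  refine ⟨_, good_of_cycle hp hcard hc ht (fun S hPS htS => ?_)⟩
  -- the images under `P`
  have hPA : ∀ w ∈ A, P w = formPerm A w := fun w hw => by rw [hP, Perm.mul_apply, prodCyc_fix (dA w hw)]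
  have hP0 : P x₀ = x₁ := by rw [hPA x₀ (by simp [hA]), hA]; exact formPerm_apply_head _ _ _ hAn
  have hP1 : P x₁ = x₂ := by
    rw [hPA x₁ (by simp [hA]), hA, formPerm_cons_cons, Perm.mul_apply,
      formPerm_apply_head _ _ _ (List.nodup_cons.1 hAn).2, swap_apply_of_ne_of_ne] <;>
    · intro e; subst e; simp [hA] at hAn
  have hPD : ∀ w ∈ z :: Y, P w = prodCyc D w := fun w hw => by
    rw [hP, Perm.mul_apply]
    exact formPerm_apply_of_notMem fun h => dA _ h (hhD w hw).1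
  have hheads : ∀ w ∈ z :: Y, P w ∈ pts D ∧ P w ∉ z :: Y := fun w hw => by rw [hPD w hw]; exact hhD w hw
  have hPz : P z = z' := by rw [hPD z (by simp), prodCyc_head hDn (y' := z') (l := lz) (by simp [hD])]
  have hYe : Y = l₀ :: l₁ :: l₂ :: Ls.map Prod.fst := by simp [hYdef, hRs]
  have hl0 : l₀ ∈ z :: Y := by simp [hYe]
  have hPl : P l₀ = l₀' := by
    rw [hPD l₀ hl0, prodCyc_head hDn (y' := l₀') (l := m₀) (by simp [hD, hRs])]
  have hne9 : [x₀, x₁, x₂, z, z', l₀, l₀', l₁, l₂].Nodup := by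
    have hl0' : l₀' ∈ pts D ∧ l₀' ∉ z :: Y := hPl ▸ hheads l₀ hl0
    have hz' : z' ∈ pts D ∧ z' ∉ z :: Y := hPz ▸ hheads z (by simp)
    have hzl : z' ≠ l₀' := fun e => by
      rw [← hPz, ← hPl] at e
      exact (List.nodup_cons.1 hhn).1 (P.injective e ▸ by simp [hYe])
    have hs := hYsub
    have a0 := dA x₀ (by simp [hA]); have a1 := dA x₁ (by simp [hA]); have a2 := dA x₂ (by simp [hA])
    simp [hA] at hAn
    simp [hYe] at hhn hl0' hz' hs
    simp only [List.nodup_cons, List.mem_cons, List.not_mem_nil, or_false, not_or, not_false_eq_true,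
      List.nodup_nil, and_true]
    grind
  set η := formPerm Y with hη
  set η' := P * η * P⁻¹ with hη'
  have hηf : ∀ w, w ∈ [x₀, x₁, x₂, z, z', l₀'] → η w = w := by
    intro w hw
    refine formPerm_apply_of_notMem fun h => ?_
    simp only [List.mem_cons, List.not_mem_nil, or_false] at hw
    have h' : w ∈ z :: Y := List.mem_cons_of_mem _ h
    rcases hw with rfl | rfl | rfl | rfl | rfl | rfl
    · exact dA w (by simp [hA]) (hYsub _ h')
    · exact dA w (by simp [hA]) (hYsub _ h')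
    · exact dA w (by simp [hA]) (hYsub _ h')
    · exact (List.nodup_cons.1 hhn).1 h
    · exact (hheads z (by simp)).2 (hPz ▸ h')
    · exact (hheads l₀ hl0).2 (hPl ▸ h')
  have hη'Y : ∀ w, η' w ≠ w → ∃ u ∈ Y, P u = w := by
    intro w hw
    refine ⟨P⁻¹ w, formPerm_mem_of_ne fun e => hw ?_, by simp⟩
    show P (η (P⁻¹ w)) = w
    rw [hη, e]; simp
  have hη'f : ∀ w, w ∈ [x₀, x₁, x₂, z, l₀] → η' w = w := by
    intro w hw
    by_contra h
    obtain ⟨u, hu', rfl⟩ := hη'Y w h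
    obtain ⟨h1, h2⟩ := hheads u (List.mem_cons_of_mem _ hu')
    simp only [List.mem_cons, List.not_mem_nil, or_false] at hw
    rcases hw with e | e | e | e | e <;> rw [e] at h1 h2
    · exact dA x₀ (by simp [hA]) h1
    · exact dA x₁ (by simp [hA]) h1
    · exact dA x₂ (by simp [hA]) h1
    · exact h2 (by simp)
    · exact h2 hl0
  have hηη' : η * η' = η' * η := commute_of_fix fun w hw => by
    by_contra h
    obtain ⟨u, hu', rfl⟩ := hη'Y w h
    exact (hheads u (List.mem_cons_of_mem _ hu')).2 (List.mem_cons_of_mem _ (formPerm_mem_of_ne hw))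
  set K := swap x₁ l₀ with hK
  set K' := swap x₂ l₀' with hK'
  set s₁ := swap x₁ z' with hs₁
  have hφK : φ = K * η := by rw [hφ, hη, hYe, formPerm_cons_cons]
  have hsp : ∀ a b : Perm α, P * (a * b) * P⁻¹ = (P * a * P⁻¹) * (P * b * P⁻¹) := fun a b => by group
  have hconj : P * (s₀ * φ) * P⁻¹ = s₁ * K' * η' := by
    rw [hφK, hs₀, hK, hsp, hsp, conj_swap, conj_swap, hP0, hP1, hPz, hPl, ← hη', hs₁, hK', mul_assoc]
  have c1 : η * (s₁ * K') = s₁ * K' * η := by
    rw [hs₁, hK', push2, hηf x₁ (by simp), hηf z' (by simp), hηf x₂ (by simp), hηf l₀' (by simp)]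
  have c2 : η' * (s₀ * K) = s₀ * K * η' := by
    rw [hs₀, hK, push2, hη'f x₀ (by simp), hη'f z (by simp), hη'f x₁ (by simp), hη'f l₀ (by simp)]
  have hC : (s₀ * K * s₁ * K') * (s₁ * K' * s₀ * K)⁻¹ ∈ S := by
    have h1 : s₁ * K' * η' ∈ S := hconj ▸ mul_mem (mul_mem hPS htS) (inv_mem hPS)
    have h2 : s₀ * K * η ∈ S := by rw [mul_assoc, ← hφK]; exact htS
    have e1 : s₀ * K * η * (s₁ * K' * η') = s₀ * K * s₁ * K' * (η * η') := by
      rw [show s₀ * K * η * (s₁ * K' * η') = s₀ * K * (η * (s₁ * K')) * η' by simp only [mul_assoc], c1]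
      simp only [mul_assoc]
    have e2 : s₁ * K' * η' * (s₀ * K * η) = s₁ * K' * s₀ * K * (η * η') := by
      rw [show s₁ * K' * η' * (s₀ * K * η) = s₁ * K' * (η' * (s₀ * K)) * η by simp only [mul_assoc], c2, hηη']
      simp only [mul_assoc]
    have := mul_mem (mul_mem h2 h1) (inv_mem (mul_mem h1 h2))
    rw [e1, e2] at this
    simpa [mul_assoc] using this
  set f := emb [x₀, x₁, x₂, z, z', l₀, l₀', l₁, l₂] hne9 with hf
  have h1 : cyc3 x₁ l₀ z' ∈ S := by
    have hm1 : (swap (0 : Fin 9) 3 * swap 1 5 * swap 1 4 * swap 2 6) *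
        (swap (1 : Fin 9) 4 * swap 2 6 * swap 0 3 * swap 1 5)⁻¹ = cyc3 1 5 4 := by decide
    have := congrArg (tr f) hm1
    simp only [map_mul, map_inv, tr_swap, tr_cyc3] at this
    exact this ▸ hC
  set η₁ := formPerm (l₁ :: l₂ :: Ls.map Prod.fst) with hη₁
  set η₂ := formPerm (l₂ :: Ls.map Prod.fst) with hη₂
  have hη1 : η = swap l₀ l₁ * η₁ := by rw [hη, hYe, formPerm_cons_cons]
  have hη2 : η₁ = swap l₁ l₂ * η₂ := by rw [hη₁, formPerm_cons_cons]
  have hYn : Y.Nodup := (List.nodup_cons.1 hhn).2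
  have hη1f : ∀ w, w ∈ [x₁, l₀, z'] → η₁ w = w := by
    intro w hw
    refine formPerm_apply_of_notMem fun h => ?_
    simp only [List.mem_cons, List.not_mem_nil, or_false] at hw
    rw [hYe] at hYn
    have h' : w ∈ z :: Y := by rw [hYe]; exact List.mem_cons_of_mem _ (List.mem_cons_of_mem _ h)
    rcases hw with rfl | rfl | rfl
    · exact dA w (by simp [hA]) (hYsub _ h')
    · exact (List.nodup_cons.1 hYn).1 h
    · exact (hheads z (by simp)).2 (hPz ▸ h')
  have hη2f : ∀ w, w ∈ [l₀, l₁, z'] → η₂ w = w := by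
    intro w hw
    refine formPerm_apply_of_notMem fun h => ?_
    simp only [List.mem_cons, List.not_mem_nil, or_false] at hw
    rw [hYe] at hYn
    rcases hw with rfl | rfl | rfl
    · exact (List.nodup_cons.1 hYn).1 (List.mem_cons_of_mem _ h)
    · exact (List.nodup_cons.1 (List.nodup_cons.1 hYn).2).1 h
    · refine (hheads z (by simp)).2 (hPz ▸ ?_)
      rw [hYe]
      exact List.mem_cons_of_mem _ (List.mem_cons_of_mem _ (List.mem_cons_of_mem _ h))
  have hcomm : ∀ (π : Perm α) (a b c : α), π a = a → π b = b → π c = c → π * cyc3 a b c = cyc3 a b c * π := by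
    intro π a b c ha hb hc'
    rw [cyc3, push2, ha, hb, hc']
  have hTe : s₀ * φ = s₀ * K * swap l₀ l₁ * η₁ := by rw [hφK, hη1]; simp only [mul_assoc]
  have h2 : cyc3 z' l₀ l₁ ∈ S := by
    have hmem := mul_mem (mul_mem htS h1) (inv_mem htS)
    rw [hTe, show s₀ * K * swap l₀ l₁ * η₁ * cyc3 x₁ l₀ z' * (s₀ * K * swap l₀ l₁ * η₁)⁻¹ =
      s₀ * K * swap l₀ l₁ * (η₁ * cyc3 x₁ l₀ z' * η₁⁻¹) * (s₀ * K * swap l₀ l₁)⁻¹ by group,
      hcomm η₁ _ _ _ (hη1f x₁ (by simp)) (hη1f l₀ (by simp)) (hη1f z' (by simp)), mul_inv_cancel_right] at hmem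
    have hm2 : swap (0 : Fin 9) 3 * swap 1 5 * swap 5 7 * cyc3 1 5 4 * (swap (0 : Fin 9) 3 * swap 1 5 * swap 5 7)⁻¹ =
        cyc3 4 5 7 := by decide
    have := congrArg (tr f) hm2
    simp only [map_mul, map_inv, tr_swap, tr_cyc3] at this
    exact this ▸ hmem
  have h3 : cyc3 z' l₁ l₂ ∈ S := by
    have hmem := mul_mem (mul_mem htS h2) (inv_mem htS)
    rw [hTe, hη2, show s₀ * K * swap l₀ l₁ * (swap l₁ l₂ * η₂) * cyc3 z' l₀ l₁ *
        (s₀ * K * swap l₀ l₁ * (swap l₁ l₂ * η₂))⁻¹ =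
      s₀ * K * swap l₀ l₁ * swap l₁ l₂ * (η₂ * cyc3 z' l₀ l₁ * η₂⁻¹) * (s₀ * K * swap l₀ l₁ * swap l₁ l₂)⁻¹ by group,
      hcomm η₂ _ _ _ (hη2f z' (by simp)) (hη2f l₀ (by simp)) (hη2f l₁ (by simp)), mul_inv_cancel_right] at hmem
    have hm3 : swap (0 : Fin 9) 3 * swap 1 5 * swap 5 7 * swap 7 8 * cyc3 4 5 7 *
        (swap (0 : Fin 9) 3 * swap 1 5 * swap 5 7 * swap 7 8)⁻¹ = cyc3 4 7 8 := by decide
    have := congrArg (tr f) hm3
    simp only [map_mul, map_inv, tr_swap, tr_cyc3] at this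
    exact this ▸ hmem
  refine not_solvable_five (a := x₁) (b := l₀) (c := z') (d := l₁) (e := l₂) ?_ h1 h3
  simp only [List.nodup_cons, List.mem_cons, List.not_mem_nil, or_false, not_or, not_false_eq_true,
    List.nodup_nil, and_true] at hne9 ⊢
  grind

set_option maxRecDepth 20000 in
/-- Three cycles and no fixed point. -/
theorem config_three {x₀ x₁ x₂ y₀ y₁ y₂ z₀ z₁ : α} {la lb lc : List α}
    (hn : ((x₀ :: x₁ :: x₂ :: la) ++ pts [(y₀, y₁ :: y₂ :: lb), (z₀, z₁ :: lc)]).Nodup)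
    (hu : ((x₀ :: x₁ :: x₂ :: la) ++ pts [(y₀, y₁ :: y₂ :: lb), (z₀, z₁ :: lc)]).toFinset = Finset.univ) :
    ∃ Q : Perm α, Q.cycleType = {Fintype.card α} ∧
      Good 3 (formPerm (x₀ :: x₁ :: x₂ :: la) * prodCyc [(y₀, y₁ :: y₂ :: lb), (z₀, z₁ :: lc)]) Q := by
  set A := x₀ :: x₁ :: x₂ :: la with hA
  set B := y₀ :: y₁ :: y₂ :: lb with hB
  set C := z₀ :: z₁ :: lc with hC
  have hpts : pts [(y₀, y₁ :: y₂ :: lb), (z₀, z₁ :: lc)] = B ++ C := by simp [pts, hB, hC]
  rw [hpts] at hn hu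
  obtain ⟨hAn, hBC, hdA⟩ := List.nodup_append.1 hn
  obtain ⟨hBn, hCn, hdB⟩ := List.nodup_append.1 hBC
  have hcard : 2 ≤ Fintype.card α := by
    rw [← Finset.card_univ, ← hu, List.toFinset_card_of_nodup hn]; simp [hA]
  have dAB : ∀ w ∈ A, w ∉ B := fun w hw h => hdA w hw w (List.mem_append_left _ h) rfl
  have dAC : ∀ w ∈ A, w ∉ C := fun w hw h => hdA w hw w (List.mem_append_right _ h) rfl
  have dBC : ∀ w ∈ B, w ∉ C := fun w hw h => hdB w hw w h rfl
  have hne8 : [x₀, x₁, x₂, y₀, y₁, y₂, z₀, z₁].Nodup := by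
    have h : List.Sublist ([x₀, x₁, x₂] ++ ([y₀, y₁, y₂] ++ [z₀, z₁])) (A ++ (B ++ C)) :=
      List.Sublist.append (by simp [hA]) (List.Sublist.append (by simp [hB]) (by simp [hC]))
    exact hn.sublist h
  have hne := hne8
  simp only [List.nodup_cons, List.mem_cons, List.not_mem_nil, or_false, not_or, not_false_eq_true,
    List.nodup_nil, and_true] at hne
  set fA := formPerm A with hfA
  set fB := formPerm B with hfB
  set fC := formPerm C with hfC
  have hB0 : fB x₀ = x₀ := formPerm_apply_of_notMem (dAB x₀ (by simp [hA]))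
  have hA0 : fA x₀ = x₁ := formPerm_apply_head _ _ _ hAn
  -- the long cycle
  have k1 := merge (cycOn_formPerm hAn) (cycOn_formPerm hBn)
    (Finset.disjoint_left.2 fun w hw hw' => dAB w (List.mem_toFinset.1 hw) (List.mem_toFinset.1 hw'))
    (a := x₀) (y := y₀) (by simp [hA]) (by simp [hB])
  have k2 := k1.erase (x := x₁) (y := y₀) (by simp [hB]) (by grind) (by
    show fA (fB (swap x₀ y₀ y₀)) = x₁
    rw [swap_apply_right, hB0, hA0])
  have k3 := merge k2 (cycOn_singleton x₁) (Finset.disjoint_singleton_right.2 (by simp)) (a := y₁) (y := x₁)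
    (by simp [hB]; grind) (by simp)
  have k4 := merge k3 (cycOn_formPerm hCn) (Finset.disjoint_left.2 fun w hw hw' => by
      rw [List.mem_toFinset] at hw'
      simp only [Finset.mem_union, Finset.mem_erase, Finset.mem_singleton, List.mem_toFinset] at hw
      rcases hw with ⟨-, h | h⟩ | rfl
      · exact dAC w h hw'
      · exact dBC w h hw'
      · exact dAC w (by simp [hA]) hw')
    (a := y₁) (y := z₀) (by simp [hB]; grind) (by simp [hC])
  have hS : ((A.toFinset ∪ B.toFinset).erase x₁ ∪ {x₁}) ∪ C.toFinset = Finset.univ := by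
    rw [← hu, List.toFinset_append, List.toFinset_append]
    ext w
    simp only [Finset.mem_union, Finset.mem_erase, Finset.mem_singleton, List.mem_toFinset]
    by_cases hw : w = x₁
    · subst hw; simp [hA]
    · tauto
  rw [hS, mul_one] at k4
  set T := formPerm [x₀, y₀, x₁, y₁, z₀] with hT
  set P := fA * prodCyc [(y₀, y₁ :: y₂ :: lb), (z₀, z₁ :: lc)] with hP
  have hP' : P = fA * fB * fC := by simp [hP, prodCyc, hfB, hfC, hB, hC, mul_assoc]
  have hCf : ∀ w, w ∈ [x₀, y₀, x₁, y₁] → fC w = w := by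
    intro w hw
    refine formPerm_apply_of_notMem ?_
    simp only [List.mem_cons, List.not_mem_nil, or_false] at hw
    rcases hw with rfl | rfl | rfl | rfl
    · exact dAC w (by simp [hA])
    · exact dBC w (by simp [hB])
    · exact dAC w (by simp [hA])
    · exact dBC w (by simp [hB])
  have hTe : T = swap x₀ y₀ * swap y₀ x₁ * swap x₁ y₁ * swap y₁ z₀ := by
    rw [hT, formPerm_cons_cons, formPerm_cons_cons, formPerm_cons_cons, formPerm_cons_cons, List.formPerm_singleton]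
    simp only [mul_one, mul_assoc]
  have hcyc : CycOn (P * T) Finset.univ := by
    convert k4 using 1
    rw [hP', hTe, Equiv.swap_comm y₁ x₁]
    have e : fC * (swap x₀ y₀ * (swap y₀ x₁ * swap x₁ y₁)) = swap x₀ y₀ * (swap y₀ x₁ * swap x₁ y₁) * fC := by
      rw [push3, hCf x₀ (by simp), hCf y₀ (by simp), hCf x₁ (by simp), hCf y₁ (by simp)]
    simp only [← hfC, mul_assoc] at e ⊢
    rw [← mul_assoc fC (swap x₀ y₀), ← mul_assoc _ (swap y₀ x₁), ← mul_assoc _ (swap x₁ y₁)]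
    simp only [mul_assoc] at e ⊢
    simp only [← mul_assoc] at e ⊢
    rw [mul_assoc (fA * fB), mul_assoc (fA * fB), mul_assoc (fA * fB), e]
    simp only [mul_assoc]
    rfl
  have hTn : [x₀, y₀, x₁, y₁, z₀].Nodup := by
    simp only [List.nodup_cons, List.mem_cons, List.not_mem_nil, or_false, not_or, not_false_eq_true,
      List.nodup_nil, and_true]
    grind
  have ht : NP 3 T := by
    refine np_of_pow Nat.prime_three (m := 5) (formPerm_pow_length_eq_one_of_nodup _ hTn) (by decide) ?_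
    rw [Ne, hT, formPerm_eq_one_iff _ hTn]
    simp
  refine ⟨_, good_of_cycle Nat.prime_three hcard hcyc ht (fun S hPS htS => ?_)⟩
  have hPA : ∀ w ∈ A, P w = fA w := fun w hw => by
    rw [hP', Perm.mul_apply, Perm.mul_apply, formPerm_apply_of_notMem (dAC w hw), formPerm_apply_of_notMem (dAB w hw)]
  have hP0 : P x₀ = x₁ := (hPA x₀ (by simp [hA])).trans hA0
  have hP1 : P x₁ = x₂ := by
    rw [hPA x₁ (by simp [hA]), hfA, hA, formPerm_cons_cons, Perm.mul_apply,
      formPerm_apply_head _ _ _ (List.nodup_cons.1 hAn).2, swap_apply_of_ne_of_ne] <;> grind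
  have hPy0 : P y₀ = y₁ := by
    rw [hP', Perm.mul_apply, Perm.mul_apply, formPerm_apply_of_notMem (dBC y₀ (by simp [hB])),
      show fB y₀ = y₁ from formPerm_apply_head _ _ _ hBn]
    exact formPerm_apply_of_notMem fun h => dAB y₁ h (by simp [hB])
  have hPy1 : P y₁ = y₂ := by
    rw [hP', Perm.mul_apply, Perm.mul_apply, formPerm_apply_of_notMem (dBC y₁ (by simp [hB])),
      show fB y₁ = y₂ by
        rw [hfB, hB, formPerm_cons_cons, Perm.mul_apply, formPerm_apply_head _ _ _ (List.nodup_cons.1 hBn).2,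
          swap_apply_of_ne_of_ne] <;> grind]
    exact formPerm_apply_of_notMem fun h => dAB y₂ h (by simp [hB])
  have hPz0 : P z₀ = z₁ := by
    rw [hP', Perm.mul_apply, Perm.mul_apply, show fC z₀ = z₁ from formPerm_apply_head _ _ _ hCn,
      formPerm_apply_of_notMem fun h => dBC z₁ h (by simp [hC])]
    exact formPerm_apply_of_notMem fun h => dAC z₁ h (by simp [hC])
  set x₃ := P x₂ with hx₃
  have hx3A : x₃ ∈ A := by
    rw [hx₃, hPA x₂ (by simp [hA])]
    exact List.formPerm_apply_mem_of_mem (by simp [hA])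
  have hx3 : x₃ ≠ x₁ ∧ x₃ ≠ x₂ ∧ x₃ ≠ y₁ ∧ x₃ ≠ y₂ ∧ x₃ ≠ z₀ ∧ x₃ ≠ z₁ :=
    ⟨fun e => by rw [hx₃, ← hP0] at e; have := P.injective e; grind,
      fun e => by rw [hx₃, ← hP1] at e; have := P.injective e; grind,
      fun e => dAB _ hx3A (by simp [e, hB]), fun e => dAB _ hx3A (by simp [e, hB]),
      fun e => dAC _ hx3A (by simp [e, hC]), fun e => dAC _ hx3A (by simp [e, hC])⟩
  have hsp : ∀ a b : Perm α, P * (a * b) * P⁻¹ = (P * a * P⁻¹) * (P * b * P⁻¹) := fun a b => by group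
  have hT1 : P * T * P⁻¹ = swap x₁ y₁ * swap y₁ x₂ * swap x₂ y₂ * swap y₂ z₁ := by
    rw [hTe, hsp, hsp, hsp, conj_swap, conj_swap, conj_swap, conj_swap, hP0, hP1, hPy0, hPy1, hPz0]
  set f := emb [x₀, x₁, x₂, y₀, y₁, y₂, z₀, z₁] hne8 with hf
  have hC : swap x₁ y₁ * swap x₂ z₀ ∈ S := by
    have hm : (swap (0 : Fin 8) 3 * swap 3 1 * swap 1 4 * swap 4 6) * (swap 1 4 * swap 4 2 * swap 2 5 * swap 5 7) *
        (swap (0 : Fin 8) 3 * swap 3 1 * swap 1 4 * swap 4 6)⁻¹ *
        (swap (1 : Fin 8) 4 * swap 4 2 * swap 2 5 * swap 5 7)⁻¹ = swap 1 4 * swap 2 6 := by decide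
    have := congrArg (tr f) hm
    simp only [map_mul, map_inv, tr_swap] at this
    have h1 : P * T * P⁻¹ ∈ S := mul_mem (mul_mem hPS htS) (inv_mem hPS)
    have h2 := mul_mem (mul_mem (mul_mem htS h1) (inv_mem htS)) (inv_mem h1)
    rw [hT1, hTe] at h2
    exact this ▸ h2
  have hX : cyc3 x₂ z₀ y₂ ∈ S := by
    have h2 : swap x₂ y₂ * swap x₃ z₁ ∈ S := by
      have := mul_mem (mul_mem hPS hC) (inv_mem hPS)
      rwa [hsp, conj_swap, conj_swap, hP1, hPy1, hPz0] at this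
    have h3 := pow_mem (mul_mem hC h2) 2
    set D := swap x₁ y₁ * swap x₂ z₀ * swap x₂ y₂ with hD
    set W := swap x₃ z₁ with hW
    have hW' : ∀ w, w ∈ [x₁, y₁, x₂, z₀, y₂] → W w = w := by
      intro w hw
      simp only [List.mem_cons, List.not_mem_nil, or_false] at hw
      refine swap_apply_of_ne_of_ne ?_ ?_ <;> rcases hw with rfl | rfl | rfl | rfl | rfl <;> grind
    have hDW : W * D = D * W := by
      rw [hD, mul_assoc (swap x₁ y₁), push3, hW' x₁ (by simp), hW' y₁ (by simp), hW' x₂ (by simp), hW' z₀ (by simp),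
        hW' y₂ (by simp)]
    have e : (swap x₁ y₁ * swap x₂ z₀ * (swap x₂ y₂ * W)) ^ 2 = D * D := by
      rw [← mul_assoc, ← hD, pow_two, mul_assoc D W, ← mul_assoc W D, hDW, mul_assoc D W, hW, swap_mul_self, mul_one]
    rw [e] at h3
    have hm : (swap (1 : Fin 8) 4 * swap 2 6 * swap 2 5) * (swap (1 : Fin 8) 4 * swap 2 6 * swap 2 5) = cyc3 2 6 5 := by
      decide
    have := congrArg (tr f) hm
    simp only [map_mul, tr_swap, tr_cyc3] at this
    exact this ▸ h3
  rw [hTe] at htS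
  have h1 := mul_mem (mul_mem htS hX) (inv_mem htS)
  have h2 := mul_mem (mul_mem htS h1) (inv_mem htS)
  have h3 := mul_mem (mul_mem h1 hX) (inv_mem h1)
  have hm2 : (swap (0 : Fin 8) 3 * swap 3 1 * swap 1 4 * swap 4 6) *
      ((swap (0 : Fin 8) 3 * swap 3 1 * swap 1 4 * swap 4 6) * cyc3 2 6 5 *
        (swap (0 : Fin 8) 3 * swap 3 1 * swap 1 4 * swap 4 6)⁻¹) *
      (swap (0 : Fin 8) 3 * swap 3 1 * swap 1 4 * swap 4 6)⁻¹ = cyc3 2 3 5 := by decide
  have hm3 : ((swap (0 : Fin 8) 3 * swap 3 1 * swap 1 4 * swap 4 6) * cyc3 2 6 5 *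
        (swap (0 : Fin 8) 3 * swap 3 1 * swap 1 4 * swap 4 6)⁻¹) * cyc3 2 6 5 *
      ((swap (0 : Fin 8) 3 * swap 3 1 * swap 1 4 * swap 4 6) * cyc3 2 6 5 *
        (swap (0 : Fin 8) 3 * swap 3 1 * swap 1 4 * swap 4 6)⁻¹)⁻¹ = cyc3 0 6 2 := by decide
  have g2 := congrArg (tr f) hm2
  have g3 := congrArg (tr f) hm3
  simp only [map_mul, map_inv, tr_swap, tr_cyc3] at g2 g3
  refine not_solvable_five (a := x₀) (b := z₀) (c := x₂) (d := y₀) (e := y₂) ?_ (g3 ▸ h3) (g2 ▸ h2)
  simp only [List.nodup_cons, List.mem_cons, List.not_mem_nil, or_false, not_or, not_false_eq_true,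
    List.nodup_nil, and_true]
  grind

end Cfsg.Agent.Lib.AltPPair
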