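import Mathlib

/-!
Gluing disjoint cycles of a permutation into one long cycle.
-/

set_option autoImplicit false

namespace Cfsg.Agent.Lib.AltPPair

open Equiv List

variable {α : Type*} [DecidableEq α]

/-- `σ` is the cyclic arrangement of the set `S` given by some list. -/
def CycOn (σ : Perm α) (S : Finset α) : Prop := ∃ l : List α, l.Nodup ∧ l.toFinset = S ∧ l.formPerm = σ

theorem cycOn_formPerm {l : List α} (h : l.Nodup) : CycOn l.formPerm l.toFinset := ⟨l, h, rfl, rfl⟩

theorem cycOn_singleton (y : α) : CycOn (1 : Perm α) {y} := ⟨[y], by simp, by simp, formPerm_singleton y⟩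

theorem formPerm_append' (a : α) (m : List α) : ∀ l : List α,
    formPerm (l ++ a :: m) = formPerm (l ++ [a]) * formPerm (a :: m)
  | [] => by simp
  | [x] => by simp
  | x :: y :: l => by
    have h := formPerm_append' a m (y :: l)
    simp only [List.cons_append] at h ⊢
    rw [formPerm_cons_cons, formPerm_cons_cons, h, mul_assoc]

theorem exists_rot_last {l : List α} (hl : l.Nodup) {a : α} (ha : a ∈ l) :
    ∃ k : List α, (k ++ [a]).Nodup ∧ (k ++ [a]).toFinset = l.toFinset ∧ (k ++ [a]).formPerm = l.formPerm := by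
  obtain ⟨p, q, rfl⟩ := List.append_of_mem ha
  have hr : List.IsRotated (p ++ a :: q) ((q ++ p) ++ [a]) := by
    have h := List.isRotated_append (l := p ++ [a]) (l' := q)
    simpa using h
  exact ⟨q ++ p, hr.nodup_iff.1 hl, List.toFinset_eq_of_perm _ _ hr.perm.symm,
    (formPerm_eq_of_isRotated hl hr).symm⟩

theorem exists_rot_head {l : List α} (hl : l.Nodup) {a : α} (ha : a ∈ l) :
    ∃ k : List α, (a :: k).Nodup ∧ (a :: k).toFinset = l.toFinset ∧ (a :: k).formPerm = l.formPerm := by
  obtain ⟨p, q, rfl⟩ := List.append_of_mem ha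
  have hr : List.IsRotated (p ++ a :: q) (a :: (q ++ p)) := by
    simpa using (List.isRotated_append (l := p) (l' := a :: q))
  exact ⟨q ++ p, hr.nodup_iff.1 hl, List.toFinset_eq_of_perm _ _ hr.perm.symm,
    (formPerm_eq_of_isRotated hl hr).symm⟩

theorem CycOn.apply_notMem {σ : Perm α} {S : Finset α} (h : CycOn σ S) {x : α} (hx : x ∉ S) : σ x = x := by
  obtain ⟨l, -, hS, rfl⟩ := h
  exact formPerm_apply_of_notMem fun hm => hx (hS ▸ List.mem_toFinset.2 hm)

theorem merge {σ τ : Perm α} {S T : Finset α} (hσ : CycOn σ S) (hτ : CycOn τ T) (hd : _root_.Disjoint S T) {a y : α}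
    (ha : a ∈ S) (hy : y ∈ T) : CycOn (σ * τ * swap a y) (S ∪ T) := by
  obtain ⟨l, hl, rfl, rfl⟩ := hσ
  obtain ⟨m, hm, rfl, rfl⟩ := hτ
  obtain ⟨k, hk, hkS, hkp⟩ := exists_rot_last hl (List.mem_toFinset.1 ha)
  obtain ⟨n, hn, hnT, hnp⟩ := exists_rot_last hm (List.mem_toFinset.1 hy)
  rw [← hkS, ← hnT] at hd
  rw [← hkS, ← hnT, ← hkp, ← hnp]
  have hdis : ∀ x ∈ k ++ [a], x ∉ n ++ [y] := fun x h1 h2 =>
    Finset.disjoint_left.1 hd (List.mem_toFinset.2 h1) (List.mem_toFinset.2 h2)
  have hnd : ((k ++ [a]) ++ (n ++ [y])).Nodup := List.nodup_append.2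
    ⟨hk, hn, fun x h1 z h2 e => hdis x h1 (e ▸ h2)⟩
  refine ⟨(k ++ [a]) ++ (n ++ [y]), hnd, List.toFinset_append, ?_⟩
  obtain ⟨b, n', hb⟩ : ∃ b n', n ++ [y] = b :: n' := ⟨_, _, (List.cons_head_tail (by simp)).symm⟩
  rw [hb] at hdis ⊢
  rw [List.append_assoc, List.singleton_append, formPerm_append', formPerm_cons_cons, ← mul_assoc]
  have hlast : formPerm (b :: n') y = b := by
    have h := formPerm_apply_getLast b n'
    rwa [show (b :: n').getLast (List.cons_ne_nil b n') = y by simp [← hb]] at h
  have hfix : formPerm (b :: n') a = a := formPerm_apply_of_notMem (hdis a (by simp))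
  rw [mul_assoc, mul_assoc]
  congr 1
  rw [mul_swap_eq_swap_mul, hfix, hlast]

theorem CycOn.erase {σ : Perm α} {S : Finset α} (hσ : CycOn σ S) {x y : α} (hy : y ∈ S) (hne : y ≠ x)
    (hxy : σ y = x) : CycOn (σ * swap y x) (S.erase x) := by
  obtain ⟨l, hl, rfl, rfl⟩ := hσ
  obtain ⟨k, hk, hkS, hkp⟩ := exists_rot_last hl (List.mem_toFinset.1 hy)
  rw [← hkp] at hxy ⊢
  rw [← hkS]
  obtain ⟨b, k', hb⟩ : ∃ b k', k ++ [y] = b :: k' := ⟨_, _, (List.cons_head_tail (by simp)).symm⟩
  have hbx : b = x := by
    rw [← hxy, hb]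
    have h := formPerm_apply_getLast b k'
    rw [show (b :: k').getLast (List.cons_ne_nil b k') = y by simp [← hb]] at h
    exact h.symm
  subst hbx
  cases k with
  | nil => simp at hb; exact absurd hb.1 hne
  | cons c k =>
    simp only [List.cons_append, List.cons.injEq] at hb
    obtain ⟨rfl, rfl⟩ := hb
    have hk2 := List.nodup_cons.1 hk
    refine ⟨k ++ [y], hk2.2, ?_, ?_⟩
    · ext z
      simp only [List.cons_append, List.toFinset_cons, Finset.mem_erase, Finset.mem_insert, List.mem_toFinset]
      constructor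
      · exact fun h => ⟨fun e => hk2.1 (e ▸ h), Or.inr h⟩
      · rintro ⟨h1, h2 | h2⟩
        · exact absurd h2 h1
        · exact h2
    · have hr : formPerm (c :: (k ++ [y])) = formPerm ((k ++ [y]) ++ [c]) :=
        formPerm_eq_of_isRotated hk (by simpa using List.isRotated_append (l := [c]) (l' := k ++ [y]))
      rw [List.cons_append, hr, List.append_assoc, List.singleton_append, formPerm_append_pair, mul_assoc,
        swap_mul_self, mul_one]

/-- The product of the cycles given by the lists with the listed heads. -/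
def prodCyc (Cs : List (α × List α)) : Perm α := (Cs.map fun c => formPerm (c.1 :: c.2)).prod

/-- All the points of the listed cycles. -/
def pts (Cs : List (α × List α)) : List α := Cs.flatMap fun c => c.1 :: c.2

theorem prodCyc_fix {x : α} : ∀ {Cs : List (α × List α)}, x ∉ pts Cs → prodCyc Cs x = x
  | [], _ => rfl
  | c :: Cs, h => by
    simp only [pts, List.flatMap_cons, List.mem_append, not_or] at h
    simp only [prodCyc, List.map_cons, List.prod_cons, Perm.mul_apply]
    rw [show (Cs.map fun c => formPerm (c.1 :: c.2)).prod x = x from prodCyc_fix h.2]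
    exact formPerm_apply_of_notMem h.1

theorem swap_mul_comm {π : Perm α} {a y : α} (ha : π a = a) (hy : π y = y) : swap a y * π = π * swap a y := by
  rw [mul_swap_eq_swap_mul, ha, hy]

/-- Cycles are glued one after the other by a single cycle through their heads. -/
theorem chain : ∀ (Cs : List (α × List α)) (σ : Perm α) (S : Finset α) (a : α), CycOn σ S → a ∈ S →
    (pts Cs).Nodup → (∀ z ∈ pts Cs, z ∉ S) →
    CycOn (σ * prodCyc Cs * formPerm (a :: Cs.map Prod.fst)) (S ∪ (pts Cs).toFinset)
  | [], σ, S, a, hσ, _, _, _ => by simpa [prodCyc, pts] using hσ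
  | c :: Cs, σ, S, a, hσ, ha, hnd, hdis => by
    obtain ⟨y, l⟩ := c
    simp only [pts, List.flatMap_cons] at hnd hdis ⊢
    obtain ⟨h1, h2, h3⟩ := List.nodup_append.1 hnd
    have hm := merge hσ (cycOn_formPerm h1) (Finset.disjoint_left.2 fun z hz hz' =>
      hdis z (List.mem_append_left _ (List.mem_toFinset.1 hz')) hz) ha
      (y := y) (List.mem_toFinset.2 (by simp))
    have ih := chain Cs _ _ y hm (Finset.mem_union_right _ (List.mem_toFinset.2 (by simp))) h2
      (fun z hz hz' => by
        rcases Finset.mem_union.1 hz' with h | h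
        · exact hdis z (List.mem_append_right _ hz) h
        · exact h3 z (List.mem_toFinset.1 h) z hz rfl)
    rw [List.toFinset_append, ← Finset.union_assoc]
    convert ih using 1
    swap
    · rfl
    simp only [prodCyc, List.map_cons, List.prod_cons, formPerm_cons_cons]
    have hc : swap a y * prodCyc Cs = prodCyc Cs * swap a y :=
      swap_mul_comm (prodCyc_fix fun h => hdis a (List.mem_append_right _ h) ha)
        (prodCyc_fix fun h => h3 y (by simp) y h rfl)
    simp only [prodCyc] at hc
    simp only [mul_assoc]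
    rw [← mul_assoc (swap a y), hc, mul_assoc]

theorem CycOn.cycleType [Fintype α] {σ : Perm α} (h : CycOn σ Finset.univ) (h2 : 2 ≤ Fintype.card α) :
    σ.cycleType = {Fintype.card α} := by
  obtain ⟨l, hl, hS, rfl⟩ := h
  have hlen : l.length = Fintype.card α := by
    rw [← Finset.card_univ, ← hS, List.toFinset_card_of_nodup hl]
  rw [(List.isCycle_formPerm hl (by omega)).cycleType, List.support_formPerm_of_nodup l hl (by
    intro x e; rw [e] at hlen; simp at hlen; omega), hS, Finset.card_univ]

theorem prodCyc_cycleType [Fintype α] : ∀ {Cs : List (α × List α)}, (pts Cs).Nodup → (∀ c ∈ Cs, c.2 ≠ []) →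
    (prodCyc Cs).cycleType = ↑(Cs.map fun c => c.2.length + 1) := by
  intro Cs hnd hne
  show ((Cs.map fun c => formPerm (c.1 :: c.2)).prod).cycleType = _
  rw [Perm.cycleType_eq (Cs.map fun c => formPerm (c.1 :: c.2)) rfl]
  · congr 1
    rw [List.map_map]
    refine List.map_congr_left fun c hc => ?_
    have hc' : (c.1 :: c.2).Nodup := (List.nodup_flatMap.1 hnd).1 c hc
    simp only [Function.comp_apply]
    rw [List.support_formPerm_of_nodup _ hc' (fun x e => hne c hc (by simp at e; exact e.2)),
      List.toFinset_card_of_nodup hc', List.length_cons]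
  · intro σ hσ
    obtain ⟨c, hc, rfl⟩ := List.mem_map.1 hσ
    refine List.isCycle_formPerm ((List.nodup_flatMap.1 hnd).1 c hc) ?_
    have := List.length_pos_iff.2 (hne c hc)
    simp only [List.length_cons]
    omega
  · rw [List.pairwise_map]
    refine List.Pairwise.imp_of_mem (fun {c d} hc hd h => ?_) (List.nodup_flatMap.1 hnd).2
    refine (List.formPerm_disjoint_iff ((List.nodup_flatMap.1 hnd).1 c hc) ((List.nodup_flatMap.1 hnd).1 d hd) ?_ ?_).2 h
    · have := List.length_pos_iff.2 (hne c hc); simp only [List.length_cons]; omega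
    · have := List.length_pos_iff.2 (hne d hd); simp only [List.length_cons]; omega

theorem prodCyc_head : ∀ {Cs : List (α × List α)}, (pts Cs).Nodup → ∀ {y y' : α} {l : List α},
    (y, y' :: l) ∈ Cs → prodCyc Cs y = y'
  | [], _, _, _, _, h => by simp at h
  | c :: Cs, hnd, y, y', l, h => by
    simp only [pts, List.flatMap_cons] at hnd
    obtain ⟨h1, h2, h3⟩ := List.nodup_append.1 hnd
    simp only [prodCyc, List.map_cons, List.prod_cons, Perm.mul_apply]
    rcases List.mem_cons.1 h with rfl | h'
    · rw [show (Cs.map fun c => formPerm (c.1 :: c.2)).prod y = y from prodCyc_fix fun e => h3 y (by simp) y e rfl]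
      exact formPerm_apply_head y y' l h1
    · have hyp : (Cs.map fun c => formPerm (c.1 :: c.2)).prod y = y' := prodCyc_head h2 h'
      rw [hyp]
      refine formPerm_apply_of_notMem fun e => h3 y' e y' ?_ rfl
      exact List.mem_flatMap.2 ⟨_, h', by simp⟩

/-- Any list of lengths can be realised on any list that is long enough. -/
theorem exists_chop : ∀ (ns : List ℕ) (l : List α), (∀ n ∈ ns, 3 ≤ n) → l.Nodup → ns.sum ≤ l.length →
    ∃ (Cs : List (α × List α)) (r : List α), Cs.map (fun c => c.2.length + 1) = ns ∧ (pts Cs ++ r).Nodup ∧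
      (pts Cs ++ r).toFinset = l.toFinset ∧ r.length + ns.sum = l.length ∧ ∀ c ∈ Cs, 2 ≤ c.2.length
  | [], l, _, hl, _ => ⟨[], l, rfl, by simpa [pts] using hl, by simp [pts], by simp, by simp⟩
  | n :: ns, l, h3, hl, hsum => by
    have hn := h3 n (by simp)
    simp only [List.sum_cons] at hsum
    cases l with
    | nil => simp at hsum; omega
    | cons y l =>
      simp only [List.length_cons] at hsum
      obtain ⟨hy, hl'⟩ := List.nodup_cons.1 hl
      obtain ⟨Cs, r, h1, h2, h4, h5, h6⟩ := exists_chop ns (l.drop (n - 1)) (fun m hm => h3 m (List.mem_cons_of_mem _ hm))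
        (hl'.sublist (List.drop_sublist _ _)) (by rw [List.length_drop]; omega)
      have hlt : (l.take (n - 1)).length = n - 1 := by rw [List.length_take]; omega
      have hmem : ∀ z, z ∈ pts Cs ++ r ↔ z ∈ l.drop (n - 1) := fun z => by
        rw [← List.mem_toFinset, h4, List.mem_toFinset]
      refine ⟨(y, l.take (n - 1)) :: Cs, r, ?_, ?_, ?_, ?_, ?_⟩
      · simp only [List.map_cons, h1, hlt]
        congr 1
        omega
      · simp only [pts, List.flatMap_cons, List.cons_append, List.append_assoc]
        refine List.nodup_cons.2 ⟨?_, List.nodup_append.2 ⟨hl'.sublist (List.take_sublist _ _), h2, ?_⟩⟩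
        · simp only [List.mem_append, not_or]
          exact ⟨fun h => hy (List.mem_of_mem_take h),
            not_or.1 (fun h => hy (List.mem_of_mem_drop ((hmem y).1 (List.mem_append.2 h))))⟩
        · intro z hz w hw e
          subst e
          exact List.disjoint_take_drop hl' le_rfl hz ((hmem z).1 hw)
      · have hmem' : ∀ z, z ∈ (Cs.flatMap fun c => c.1 :: c.2) ++ r ↔ z ∈ l.drop (n - 1) := hmem
        ext z
        simp only [pts, List.flatMap_cons, List.cons_append, List.append_assoc, List.mem_toFinset, List.mem_cons,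
          List.mem_append (s := l.take (n - 1)), hmem']
        rw [← List.mem_append, List.take_append_drop]
      · rw [List.length_drop] at h5
        simp only [List.sum_cons, List.length_cons]
        omega
      · intro c hc
        rcases List.mem_cons.1 hc with rfl | hc'
        · simp only [hlt]; omega
        · exact h6 c hc'

end Cfsg.Agent.Lib.AltPPair
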