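import Cfsg.Agent.Lib.AltPPair.Configs

/-!
Two cycles of the same length.
-/

set_option autoImplicit false

namespace Cfsg.Agent.Lib.AltPPair

open Equiv

/-- The residue of `i`. -/
def res (m i : ℕ) : Fin (m + 2) := ⟨i % (m + 2), Nat.mod_lt _ (by omega)⟩

theorem res_eq_iff {m i j : ℕ} : res m i = res m j ↔ i % (m + 2) = j % (m + 2) := by simp [res]

theorem rot_res (m i : ℕ) : finRotate (m + 2) (res m i) = res m (i + 1) := by
  rw [finRotate_succ_apply]
  ext
  simp [res, Fin.val_add]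

theorem rot_pow_res (m i k : ℕ) : (finRotate (m + 2) ^ k) (res m i) = res m (i + k) := by
  induction k with
  | zero => simp
  | succ k ih => rw [pow_succ', Perm.mul_apply, ih, rot_res, Nat.add_assoc]

set_option maxRecDepth 20000 in
theorem config_equal {p m : ℕ} (hp : p.Prime) (hodd : Odd p) (hb : 5 ≤ m + 2) (hbo : Odd (m + 2))
    (hp3 : p = 3 → 9 ≤ m + 2) (ε : ℤˣ) :
    ∃ s : Perm (Fin (m + 2)), Perm.sign s = ε ∧ Good p (finRotate (m + 2)) (s * (finRotate (m + 2))⁻¹ * s⁻¹) := by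
  set P := finRotate (m + 2) with hP
  set e := res m with he
  have hPe : ∀ i, P (e i) = e (i + 1) := rot_res m
  have hb2 : (m + 2) % 2 = 1 := Nat.odd_iff.1 hbo
  have hinj : ∀ {i j : ℕ}, i < m + 2 → j < m + 2 → e i = e j → i = j := by
    intro i j hi hj h
    rw [he, res_eq_iff, Nat.mod_eq_of_lt hi, Nat.mod_eq_of_lt hj] at h
    exact h
  -- what a double transposition gives
  have hD : ∀ S : Subgroup (Perm (Fin (m + 2))), P ∈ S → swap (e 1) (e 3) * swap (e 0) (e 2) ∈ S →
      ¬ Group.IsSolvable ↥S := by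
    intro S hPS hDS
    have h5 : [e 0, e 1, e 2, e 3, e 4].Nodup := by
      simp [he, res_eq_iff, Nat.mod_eq_of_lt (show 0 < m + 2 by omega), Nat.mod_eq_of_lt (show 1 < m + 2 by omega),
        Nat.mod_eq_of_lt (show 2 < m + 2 by omega), Nat.mod_eq_of_lt (show 3 < m + 2 by omega),
        Nat.mod_eq_of_lt (show 4 < m + 2 by omega)]
    have hsp : ∀ a b : Perm (Fin (m + 2)), P * (a * b) * P⁻¹ = (P * a * P⁻¹) * (P * b * P⁻¹) := fun a b => by group
    have h1 := mul_mem hDS (mul_mem (mul_mem hPS hDS) (inv_mem hPS))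
    rw [hsp, conj_swap, conj_swap, hPe, hPe, hPe, hPe] at h1
    have hm : (swap (1 : Fin 5) 3 * swap 0 2) * (swap 2 4 * swap 1 3) = cyc3 0 2 4 := by decide
    have := congrArg (tr (emb [e 0, e 1, e 2, e 3, e 4] h5)) hm
    simp only [map_mul, tr_swap, tr_cyc3] at this
    have hX : cyc3 (e 0) (e 2) (e 4) ∈ S := this ▸ h1
    have hX4 : cyc3 (e 4) (e 6) (e 8) ∈ S := by
      have h2 := mul_mem (mul_mem (pow_mem hPS 4) hX) (inv_mem (pow_mem hPS 4))
      rw [cyc3, show P ^ 4 * (swap (e 0) (e 2) * swap (e 2) (e 4)) * (P ^ 4)⁻¹ =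
        (P ^ 4 * swap (e 0) (e 2) * (P ^ 4)⁻¹) * (P ^ 4 * swap (e 2) (e 4) * (P ^ 4)⁻¹) by group, conj_swap,
        conj_swap, hP, he, rot_pow_res, rot_pow_res, rot_pow_res] at h2
      exact h2
    refine not_solvable_five (a := e 0) (b := e 2) (c := e 4) (d := e 6) (e := e 8) ?_ hX hX4
    rcases (show m = 3 ∨ m = 5 ∨ 9 ≤ m + 2 by omega) with rfl | rfl | h9
    · simp [he, res_eq_iff]
    · simp [he, res_eq_iff]
    · simp [he, res_eq_iff, Nat.mod_eq_of_lt (show 0 < m + 2 by omega), Nat.mod_eq_of_lt (show 2 < m + 2 by omega),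
        Nat.mod_eq_of_lt (show 4 < m + 2 by omega), Nat.mod_eq_of_lt (show 6 < m + 2 by omega),
        Nat.mod_eq_of_lt (show 8 < m + 2 by omega)]
  have hgood : ∀ s : Perm (Fin (m + 2)), NP p (P * s * P⁻¹ * s⁻¹) →
      (∀ S : Subgroup (Perm (Fin (m + 2))), P ∈ S → P * s * P⁻¹ * s⁻¹ ∈ S → ¬ Group.IsSolvable ↥S) →
      Good p P (s * P⁻¹ * s⁻¹) := by
    intro s h1 h2
    have e' : P * (s * P⁻¹ * s⁻¹) = P * s * P⁻¹ * s⁻¹ := by simp only [mul_assoc]
    refine ⟨by rw [e']; exact h1, ?_⟩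
    refine h2 _ (Subgroup.subset_closure (Or.inl rfl)) ?_
    rw [← e']
    exact mul_mem (Subgroup.subset_closure (Or.inl rfl)) (Subgroup.subset_closure (Or.inr rfl))
  have hsp : ∀ a b : Perm (Fin (m + 2)), P * (a * b) * P⁻¹ = (P * a * P⁻¹) * (P * b * P⁻¹) := fun a b => by group
  have h02 : e 0 ≠ e 2 := fun h => absurd (hinj (by omega) (by omega) h) (by omega)
  rcases Int.units_eq_one_or ε with rfl | rfl
  · by_cases h3 : p = 3
    · have hb7 : 7 ≤ m + 2 := by have := hp3 h3; omega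
      have h7 : [e 0, e 1, e 2, e 3, e 4, e 5, e 6].Nodup := by
        simp [he, res_eq_iff, Nat.mod_eq_of_lt (show 0 < m + 2 by omega), Nat.mod_eq_of_lt (show 1 < m + 2 by omega),
          Nat.mod_eq_of_lt (show 2 < m + 2 by omega), Nat.mod_eq_of_lt (show 3 < m + 2 by omega),
          Nat.mod_eq_of_lt (show 4 < m + 2 by omega), Nat.mod_eq_of_lt (show 5 < m + 2 by omega),
          Nat.mod_eq_of_lt (show 6 < m + 2 by omega)]
      have h45 : e 4 ≠ e 5 := fun h => absurd (hinj (by omega) (by omega) h) (by omega)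
      refine ⟨swap (e 0) (e 2) * swap (e 4) (e 5), ?_, ?_⟩
      · rw [map_mul, Perm.sign_swap h02, Perm.sign_swap h45]; rfl
      set g := tr (emb [e 0, e 1, e 2, e 3, e 4, e 5, e 6] h7) with hg
      have hC : P * (swap (e 0) (e 2) * swap (e 4) (e 5)) * P⁻¹ * (swap (e 0) (e 2) * swap (e 4) (e 5))⁻¹ =
          g ((swap (1 : Fin 7) 3 * swap 5 6) * (swap 0 2 * swap 4 5)⁻¹) := by
        rw [hsp, conj_swap, conj_swap, hPe, hPe, hPe, hPe, hg]
        simp only [map_mul, map_inv, tr_swap]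
        rfl
      refine hgood _ (hC ▸ ?_) (fun S hPS hS => ?_)
      · refine np_of_swap hodd (x := e 0) (z := e 2) ?_ ?_ h02
        · have hv : ((swap (1 : Fin 7) 3 * swap 5 6) * (swap 0 2 * swap 4 5)⁻¹ : Perm (Fin 7)) 0 = 2 := by decide
          rw [hg, tr, Perm.viaEmbeddingHom_apply]
          have := Perm.viaEmbedding_apply ((swap (1 : Fin 7) 3 * swap 5 6) * (swap 0 2 * swap 4 5)⁻¹)
            (emb [e 0, e 1, e 2, e 3, e 4, e 5, e 6] h7) 0
          rw [hv] at this
          exact this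
        · have hv : ((swap (1 : Fin 7) 3 * swap 5 6) * (swap 0 2 * swap 4 5)⁻¹ : Perm (Fin 7)) 2 = 0 := by decide
          rw [hg, tr, Perm.viaEmbeddingHom_apply]
          have := Perm.viaEmbedding_apply ((swap (1 : Fin 7) 3 * swap 5 6) * (swap 0 2 * swap 4 5)⁻¹)
            (emb [e 0, e 1, e 2, e 3, e 4, e 5, e 6] h7) 2
          rw [hv] at this
          exact this
      · refine hD S hPS ?_
        have h3' := pow_mem (hC ▸ hS) 3
        have hm : ((swap (1 : Fin 7) 3 * swap 5 6) * (swap 0 2 * swap 4 5)⁻¹) ^ 3 = swap 1 3 * swap 0 2 := by decide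
        rw [← map_pow, hm, hg, map_mul, tr_swap, tr_swap] at h3'
        exact h3'
    · have h4 : [e 0, e 1, e 2, e 3].Nodup := by
        simp [he, res_eq_iff, Nat.mod_eq_of_lt (show 0 < m + 2 by omega), Nat.mod_eq_of_lt (show 1 < m + 2 by omega),
          Nat.mod_eq_of_lt (show 2 < m + 2 by omega), Nat.mod_eq_of_lt (show 3 < m + 2 by omega)]
      refine ⟨swap (e 0) (e 1) * swap (e 1) (e 2), ?_, ?_⟩
      · rw [map_mul, Perm.sign_swap, Perm.sign_swap]
        · rfl
        · exact fun h => absurd (hinj (by omega) (by omega) h) (by omega)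
        · exact fun h => absurd (hinj (by omega) (by omega) h) (by omega)
      set g := tr (emb [e 0, e 1, e 2, e 3] h4) with hg
      have hC : P * (swap (e 0) (e 1) * swap (e 1) (e 2)) * P⁻¹ * (swap (e 0) (e 1) * swap (e 1) (e 2))⁻¹ =
          cyc3 (e 0) (e 3) (e 1) := by
        rw [hsp, conj_swap, conj_swap, hPe, hPe, hPe]
        have hm : (swap (1 : Fin 4) 2 * swap 2 3) * (swap 0 1 * swap 1 2)⁻¹ = cyc3 0 3 1 := by decide
        have := congrArg g hm
        simp only [hg, map_mul, map_inv, tr_swap, tr_cyc3] at this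
        exact this
      have hne : cyc3 (e 0) (e 3) (e 1) ≠ 1 := by
        intro h
        have := congrArg (fun σ : Perm (Fin (m + 2)) => σ (e 3)) h
        simp only [cyc3, Perm.mul_apply, swap_apply_left, Perm.one_apply] at this
        rw [swap_apply_of_ne_of_ne] at this
        · exact absurd (hinj (by omega) (by omega) this) (by omega)
        all_goals exact fun h => absurd (hinj (by omega) (by omega) h) (by omega)
      refine hgood _ (hC ▸ np_of_pow hp (m := 3) ?_ ?_ hne) (fun S hPS hS => ?_)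
      · have hm : (cyc3 (0 : Fin 4) 3 1) ^ 3 = 1 := by decide
        have := congrArg g hm
        simp only [hg, map_pow, tr_cyc3, map_one] at this
        exact this
      · exact fun h => h3 ((Nat.prime_dvd_prime_iff_eq hp Nat.prime_three).1 h)
      · rw [hC] at hS
        have h1 : cyc3 (e 1) (e 4) (e 2) ∈ S := by
          have := mul_mem (mul_mem hPS hS) (inv_mem hPS)
          rwa [cyc3, hsp, conj_swap, conj_swap, hPe, hPe, hPe] at this
        refine not_solvable_five (a := e 0) (b := e 3) (c := e 1) (d := e 4) (e := e 2) ?_ hS h1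
        simp [he, res_eq_iff, Nat.mod_eq_of_lt (show 0 < m + 2 by omega), Nat.mod_eq_of_lt (show 1 < m + 2 by omega),
          Nat.mod_eq_of_lt (show 2 < m + 2 by omega), Nat.mod_eq_of_lt (show 3 < m + 2 by omega),
          Nat.mod_eq_of_lt (show 4 < m + 2 by omega)]
  · refine ⟨swap (e 0) (e 2), Perm.sign_swap h02, ?_⟩
    have hC : P * swap (e 0) (e 2) * P⁻¹ * (swap (e 0) (e 2))⁻¹ = swap (e 1) (e 3) * swap (e 0) (e 2) := by
      rw [conj_swap, hPe, hPe, swap_inv]
    have h13 : e 0 ≠ e 1 ∧ e 0 ≠ e 3 ∧ e 2 ≠ e 1 ∧ e 2 ≠ e 3 := by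
      refine ⟨?_, ?_, ?_, ?_⟩ <;> exact fun h => absurd (hinj (by omega) (by omega) h) (by omega)
    refine hgood _ (hC ▸ np_of_swap hodd (x := e 0) (z := e 2) ?_ ?_ h02) (fun S hPS hS => hD S hPS (hC ▸ hS))
    · rw [Perm.mul_apply, swap_apply_left, swap_apply_of_ne_of_ne h13.2.2.1 h13.2.2.2]
    · rw [Perm.mul_apply, swap_apply_right, swap_apply_of_ne_of_ne h13.1 h13.2.1]

end Cfsg.Agent.Lib.AltPPair
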