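import Cfsg.Agent.Lib.AltPPair.ConfigsFree
import Cfsg.Agent.Lib.AltPPair.Equal

/-!
Choosing the configuration from the two cycle types.
-/

set_option autoImplicit false

namespace Cfsg.Agent.Lib.AltPPair

open Equiv

variable {p : ℕ}

/-- Every member is a power of `p` greater than one. -/
def PPow (p : ℕ) (m : Multiset ℕ) : Prop := ∀ a ∈ m, ∃ k, 1 ≤ k ∧ a = p ^ k

theorem ppow_cycleType (hp : p.Prime) {α : Type*} [Fintype α] [DecidableEq α] {u : Perm α}
    (hu : ∃ k, orderOf u = p ^ k) : PPow p u.cycleType := by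
  intro a ha
  obtain ⟨k, hk⟩ := hu
  obtain ⟨j, -, rfl⟩ := (Nat.dvd_prime_pow hp).1 (hk ▸ Perm.dvd_of_mem_cycleType ha)
  refine ⟨j, Nat.pos_of_ne_zero fun h => ?_, rfl⟩
  have := Perm.two_le_of_mem_cycleType ha
  simp [h] at this

theorem PPow.three_le (hp3 : 3 ≤ p) {m : Multiset ℕ} (hm : PPow p m) {a : ℕ} (ha : a ∈ m) : 3 ≤ a := by
  obtain ⟨k, hk, rfl⟩ := hm a ha
  exact hp3.trans (Nat.le_self_pow (by omega) p)

theorem PPow.dvd_sum {m : Multiset ℕ} (hm : PPow p m) : p ∣ m.sum :=
  Multiset.dvd_sum fun a ha => by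
    obtain ⟨k, hk, rfl⟩ := hm a ha
    exact dvd_pow_self p (by omega)

theorem exists_max {m : Multiset ℕ} (h : m ≠ 0) : ∃ a ∈ m, ∀ b ∈ m, b ≤ a := by
  have hne : m.toFinset.Nonempty := by
    obtain ⟨x, hx⟩ := Multiset.exists_mem_of_ne_zero h
    exact ⟨x, Multiset.mem_toFinset.2 hx⟩
  exact ⟨m.toFinset.max' hne, Multiset.mem_toFinset.1 (Finset.max'_mem _ _),
    fun b hb => Finset.le_max' _ _ (Multiset.mem_toFinset.2 hb)⟩

theorem sub_block (hp : 2 ≤ p) : ∀ (M : ℕ) (m : Multiset ℕ), (∀ a ∈ m, ∃ k, a = p ^ k) → (∀ a ∈ m, a ≤ p ^ M) →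
    p ^ M ≤ m.sum → ∃ r ≤ m, r.sum = p ^ M
  | 0, m, hk, hle, hs => by
    obtain ⟨a, ha⟩ := Multiset.exists_mem_of_ne_zero (s := m) (fun h => by simp [h] at hs)
    obtain ⟨k, rfl⟩ := hk a ha
    refine ⟨{p ^ k}, Multiset.singleton_le.2 ha, ?_⟩
    have h1 := hle _ ha
    have h2 : 1 ≤ p ^ k := Nat.one_le_pow _ _ (by omega)
    rw [pow_zero] at h1 ⊢
    rw [Multiset.sum_singleton]
    omega
  | M + 1, m, hk, hle, hs => by
    by_cases hmem : p ^ (M + 1) ∈ m
    · exact ⟨{p ^ (M + 1)}, Multiset.singleton_le.2 hmem, by simp⟩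
    have hle' : ∀ a ∈ m, a ≤ p ^ M := by
      intro a ha
      obtain ⟨k, rfl⟩ := hk a ha
      have h1 : k ≤ M + 1 := (Nat.pow_le_pow_iff_right hp).1 (hle _ ha)
      have h2 : k ≠ M + 1 := fun e => hmem (e ▸ ha)
      exact Nat.pow_le_pow_right (by omega) (by omega)
    have key : ∀ j ≤ p, ∃ r ≤ m, r.sum = j * p ^ M := by
      intro j hj
      induction j with
      | zero => exact ⟨0, Multiset.zero_le _, by simp⟩
      | succ j ih =>
        obtain ⟨r, hr, hrs⟩ := ih (by omega)
        have hsum : (m - r).sum + j * p ^ M = m.sum := by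
          conv_rhs => rw [← Multiset.sub_add_cancel hr, Multiset.sum_add, hrs]
        obtain ⟨r', hr', hr's⟩ := sub_block hp M (m - r) (fun a ha => hk a (Multiset.mem_of_le (Multiset.sub_le_self m r) ha))
          (fun a ha => hle' a (Multiset.mem_of_le (Multiset.sub_le_self m r) ha)) (by
            have : (j + 1) * p ^ M ≤ p ^ (M + 1) := by rw [pow_succ']; exact Nat.mul_le_mul_right _ hj
            rw [add_mul, one_mul] at this
            omega)
        refine ⟨r' + r, ?_, by rw [Multiset.sum_add, hrs, hr's]; ring⟩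
        calc r' + r ≤ (m - r) + r := by gcongr
          _ = m := Multiset.sub_add_cancel hr
    obtain ⟨r, hr, hrs⟩ := key p le_rfl
    exact ⟨r, hr, by rw [hrs, pow_succ']⟩

theorem odd_sum_mod : ∀ l : List ℕ, (∀ x ∈ l, x % 2 = 1) → l.sum % 2 = l.length % 2
  | [], _ => rfl
  | x :: l, h => by
    have h1 := odd_sum_mod l fun y hy => h y (List.mem_cons_of_mem _ hy)
    have h2 := h x (by simp)
    simp only [List.sum_cons, List.length_cons]
    omega

/-- A good pair on `p ^ j` points. -/
theorem config_of_type (hp : p.Prime) (hp3 : 3 ≤ p) (j : ℕ) (hj : 1 ≤ j) (r : Multiset ℕ) (hr : PPow p r)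
    (hr0 : r ≠ 0) (hlt : ∀ a ∈ r, a < p ^ j) (hrs : r.sum ≤ p ^ j) :
    ∃ P Q : Perm (Fin (p ^ j)), P.cycleType = r ∧ Q.cycleType = {p ^ j} ∧ Good p P Q := by
  have hodd : Odd p := hp.odd_of_ne_two (by omega)
  obtain ⟨L, rfl⟩ : ∃ L : List ℕ, r = ↑L := ⟨r.toList, (Multiset.coe_toList r).symm⟩
  rw [Multiset.sum_coe] at hrs
  have h3 : ∀ x ∈ L, 3 ≤ x := fun x hx => hr.three_le hp3 (Multiset.mem_coe.2 hx)
  obtain ⟨Cs, fs, hmap, hnd, huniv, hlen, hlen2⟩ :=
    exists_chop L (List.finRange (p ^ j)) h3 (List.nodup_finRange _) (by simpa using hrs)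
  have hu : (pts Cs ++ fs).toFinset = Finset.univ := by rw [huniv, List.toFinset_finRange]
  rw [List.length_finRange] at hlen
  have hpfs : p ∣ fs.length := by
    have h1 : p ∣ L.sum := by have := hr.dvd_sum; rwa [Multiset.sum_coe] at this
    have h2 : p ∣ p ^ j := dvd_pow_self p (by omega)
    rw [← hlen] at h2
    exact (Nat.dvd_add_left h1).1 h2
  have hct : (prodCyc Cs).cycleType = (↑L : Multiset ℕ) := by
    rw [prodCyc_cycleType (List.nodup_append.1 hnd).1 (fun c hc e => by have := hlen2 c hc; rw [e] at this; simp at this),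
      hmap]
  suffices h : ∃ Q : Perm (Fin (p ^ j)), Q.cycleType = {Fintype.card (Fin (p ^ j))} ∧ Good p (prodCyc Cs) Q by
    obtain ⟨Q, h1, h2⟩ := h
    exact ⟨_, Q, hct, by rw [h1, Fintype.card_fin], h2⟩
  match Cs, hmap, hlen2, hnd, hu with
  | [], hmap, _, _, _ => exact absurd (by simp at hmap; simp [← hmap]) hr0
  | (x₀, a₀) :: Rs, hmap, hlen2, hnd, hu =>
    match a₀, hlen2 (x₀, a₀) (by simp), hmap, hlen2, hnd, hu with
    | [], h, _, _, _, _ => simp at h
    | [_], h, _, _, _, _ => simp at h
    | x₁ :: x₂ :: la, _, hmap, hlen2, hnd, hu =>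
      rw [show prodCyc ((x₀, x₁ :: x₂ :: la) :: Rs) = List.formPerm (x₀ :: x₁ :: x₂ :: la) * prodCyc Rs from rfl]
      rw [show pts ((x₀, x₁ :: x₂ :: la) :: Rs) = (x₀ :: x₁ :: x₂ :: la) ++ pts Rs from rfl] at hnd hu
      simp only [List.map_cons] at hmap
      have hsum : L.sum + fs.length = p ^ j := by omega
      match Rs, hmap, hlen2, hnd, hu with
      | [], hmap, _, hnd, hu =>
        have hLs : L.sum < p ^ j := by
          rw [← hmap]
          simp only [List.map_nil, List.sum_cons, List.sum_nil, add_zero]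
          exact hlt _ (by rw [Multiset.mem_coe, ← hmap]; simp)
        have hf2 : 2 ≤ fs.length := by
          have := Nat.le_of_dvd (by omega) hpfs
          omega
        match fs, hf2, hpfs, hnd, hu with
        | f₁ :: f₂ :: F, _, hpfs, hnd, hu =>
          rw [show prodCyc ([] : List (Fin (p ^ j) × List (Fin (p ^ j)))) = 1 from rfl, mul_one]
          refine config_plain hp (by simpa [pts] using hnd) (by simpa [pts] using hu) ?_
          simp only [List.length_cons] at hpfs
          intro h
          have := Nat.dvd_sub h hpfs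
          rw [show F.length + 3 - (F.length + 1 + 1) = 1 by omega] at this
          exact hp.one_lt.ne' (Nat.dvd_one.1 this)
      | (y₀, b₀) :: Ys, hmap, hlen2, hnd, hu =>
        match b₀, hlen2 (y₀, b₀) (by simp), hmap, hlen2, hnd, hu with
        | [], h, _, _, _, _ => simp at h
        | [_], h, _, _, _, _ => simp at h
        | y₀' :: y₀'' :: ly, _, hmap, hlen2, hnd, hu =>
          rcases Nat.eq_zero_or_pos fs.length with hF | hF
          · -- no fixed point
            have hfs : fs = [] := List.length_eq_zero_iff.1 hF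
            subst hfs
            rw [List.append_nil] at hnd hu
            have hoddL : ∀ x ∈ L, x % 2 = 1 := by
              intro x hx
              obtain ⟨k, -, rfl⟩ := hr x (Multiset.mem_coe.2 hx)
              exact Nat.odd_iff.1 hodd.pow
            have hpar := odd_sum_mod L hoddL
            have hbodd : p ^ j % 2 = 1 := Nat.odd_iff.1 hodd.pow
            match Ys, hmap, hlen2, hnd, hu with
            | [], hmap, _, _, _ =>
              rw [← hmap] at hpar hsum
              simp at hpar hsum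
              omega
            | [(z₀, c₀)], hmap, hlen2, hnd, hu =>
              match c₀, hlen2 (z₀, c₀) (by simp), hmap, hlen2, hnd, hu with
              | [], h, _, _, _, _ => simp at h
              | z₁ :: lc, _, hmap, hlen2, hnd, hu =>
                obtain ⟨i, rfl⟩ : ∃ i, j = i + 1 := ⟨j - 1, by omega⟩
                have hp3' : p = 3 := by
                  have hb : ∀ x ∈ L, x ≤ p ^ i := by
                    intro x hx
                    obtain ⟨k, -, rfl⟩ := hr x (Multiset.mem_coe.2 hx)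
                    have := hlt _ (Multiset.mem_coe.2 hx)
                    exact Nat.pow_le_pow_right (by omega) (Nat.lt_succ_iff.1 ((Nat.pow_lt_pow_iff_right (by omega)).1 this))
                  have h3L : L.sum ≤ 3 * p ^ i := by
                    have := List.sum_le_card_nsmul L (p ^ i) hb
                    rw [← hmap] at this ⊢
                    simpa using this
                  simp only [List.length_nil, add_zero] at hsum
                  rw [hsum, pow_succ'] at h3L
                  have := Nat.le_of_mul_le_mul_right h3L (pow_pos (by omega) i)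
                  omega
                subst hp3'
                exact config_three hnd hu
            | [_, _], hmap, _, _, _ =>
              rw [← hmap] at hpar hsum
              simp at hpar hsum
              omega
            | (l₀, m₀) :: (l₁, m₁) :: (l₂, m₂) :: Ls, hmap, hlen2, hnd, hu =>
              match m₀, hlen2 (l₀, m₀) (by simp), hmap, hlen2, hnd, hu with
              | [], h, _, _, _, _ => simp at h
              | l₀' :: m₀', _, hmap, hlen2, hnd, hu =>
                refine config_free hp hodd ⟨?_, ?_, ?_⟩ hnd hu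
                · intro e; have := hlen2 (l₁, m₁) (by simp); rw [e] at this; simp at this
                · intro e; have := hlen2 (l₂, m₂) (by simp); rw [e] at this; simp at this
                · intro c hc e; have := hlen2 c (by simp [hc]); rw [e] at this; simp at this
          · have hf3 : 3 ≤ fs.length := hp3.trans (Nat.le_of_dvd hF hpfs)
            match fs, hf3, hnd, hu with
            | f₀ :: f₁ :: f₂ :: F, _, hnd, hu =>
              refine config_fixed hp hodd (fun c hc e => ?_) hnd hu
              have := hlen2 c (by simp [hc]); rw [e] at this; simp at this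

theorem sum_lt_pow (hp : 2 ≤ p) {m : Multiset ℕ} (hm : PPow p m) (hnd : ∀ a, m.count a ≤ 1) {M : ℕ}
    (hle : ∀ a ∈ m, a ≤ p ^ M) : m.sum < p ^ (M + 1) := by
  have hN : m.Nodup := Multiset.nodup_iff_count_le_one.2 hnd
  have e : m.sum = ∑ a ∈ m.toFinset, a := by
    rw [Finset.sum_eq_multiset_sum, Multiset.toFinset_val, Multiset.dedup_eq_self.2 hN, Multiset.map_id']
  have hsub : m.toFinset ⊆ (Finset.range (M + 1)).image (fun k => p ^ k) := by
    intro a ha
    rw [Multiset.mem_toFinset] at ha
    obtain ⟨k, -, rfl⟩ := hm a ha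
    exact Finset.mem_image.2 ⟨k, Finset.mem_range.2 (Nat.lt_succ_iff.2 ((Nat.pow_le_pow_iff_right hp).1 (hle _ ha))), rfl⟩
  rw [e]
  refine (Finset.sum_le_sum_of_subset hsub).trans_lt ?_
  rw [Finset.sum_image fun a _ b _ h => Nat.pow_right_injective hp h]
  exact Nat.geomSum_lt hp fun k hk => Finset.mem_range.1 hk

variable {n : ℕ}

theorem exists_odd_centralizer {u : Perm (Fin n)}
    (h : ¬ Subgroup.centralizer {u} ≤ alternatingGroup (Fin n)) : ∃ z, z * u = u * z ∧ Perm.sign z = -1 := by
  obtain ⟨z, hz, hz'⟩ := SetLike.not_le_iff_exists.1 h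
  rw [Subgroup.mem_centralizer_singleton_iff] at hz
  refine ⟨z, hz, ?_⟩
  rcases Int.units_eq_one_or (Perm.sign z) with h1 | h1
  · exact absurd (Perm.mem_alternatingGroup.2 h1) hz'
  · exact h1

theorem exists_conj {u v : Perm (Fin n)} (h : u.cycleType = v.cycleType) : ∃ c, c * u * c⁻¹ = v := by
  obtain ⟨c, hc⟩ := isConj_iff.1 (Perm.isConj_iff_cycleType_eq.2 h)
  exact ⟨c, hc⟩

theorem good_of_models {b : ℕ} (hp : p.Prime) (hbn : b ≤ n) {u w : Perm (Fin n)} {P Q : Perm (Fin b)}
    (hG : Good p P Q) (hu : P.cycleType ≤ u.cycleType) (hw : Q.cycleType ≤ w.cycleType)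
    (hus : u.cycleType.sum + b ≤ n + P.cycleType.sum) (hws : w.cycleType.sum + b ≤ n + Q.cycleType.sum) :
    ∃ g, Good p u (g * w * g⁻¹) := by
  obtain ⟨u0, v0, ι, h1, h2, -, h4⟩ := transfer hp hbn P Q _ _ hu hw (fun _ h => Perm.two_le_of_mem_cycleType h)
    (fun _ h => Perm.two_le_of_mem_cycleType h) hus hws
  obtain ⟨c, hc⟩ := exists_conj h1
  obtain ⟨d, hd⟩ := exists_conj h2.symm
  refine ⟨c * d, ?_⟩
  have := (h4 1 (by simpa using hG)).conj hp c
  rw [map_one, inv_one, one_mul, mul_one, hc, ← hd] at this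
  simpa [mul_assoc] using this

theorem sum_le_n (u : Perm (Fin n)) : u.cycleType.sum ≤ n := by
  rw [Perm.sum_cycleType]
  simpa using Finset.card_le_univ u.support

theorem target_lt (hp : p.Prime) (hp3 : 3 ≤ p) {u w : Perm (Fin n)} (hu : PPow p u.cycleType)
    (hw : PPow p w.cycleType) (hu0 : u.cycleType ≠ 0) {i j : ℕ} (hmax : ∀ x ∈ u.cycleType, x ≤ p ^ i)
    (hjmem : p ^ j ∈ w.cycleType) (hij : i < j) : Target p u w := by
  have hjn : p ^ j ≤ n := (Multiset.le_sum_of_mem hjmem).trans (sum_le_n w)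
  have hlt : ∀ x ∈ u.cycleType, x < p ^ j := fun x hx =>
    (hmax x hx).trans_lt (Nat.pow_lt_pow_right (by omega) hij)
  obtain ⟨r, hr, hr0, hrs, hrn⟩ : ∃ r ≤ u.cycleType, r ≠ 0 ∧ r.sum ≤ p ^ j ∧ u.cycleType.sum + p ^ j ≤ n + r.sum := by
    rcases le_or_gt u.cycleType.sum (p ^ j) with h | h
    · exact ⟨_, le_rfl, hu0, h, by omega⟩
    · obtain ⟨r, hr, hrs⟩ := sub_block (by omega) j u.cycleType (fun a ha => (hu a ha).imp fun k hk => hk.2)
        (fun a ha => (hlt a ha).le) h.le
      refine ⟨r, hr, fun e => ?_, hrs.le, by have := sum_le_n u; omega⟩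
      rw [e, Multiset.sum_zero] at hrs
      exact (pow_pos (by omega : 0 < p) j).ne hrs
  obtain ⟨P, Q, hP, hQ, hG⟩ := config_of_type hp hp3 j (by omega) r (fun a ha => hu a (Multiset.mem_of_le hr ha))
    hr0 (fun a ha => hlt a (Multiset.mem_of_le hr ha)) hrs
  obtain ⟨g, hg⟩ := good_of_models (u := u) (w := w) hp hjn hG (hP ▸ hr) (hQ ▸ Multiset.singleton_le.2 hjmem)
    (by rw [hP]; exact hrn) (by rw [hQ, Multiset.sum_singleton]; have := sum_le_n w; omega)
  refine target_of_odd hp ?_ hg
  by_contra hc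
  simp only [not_or] at hc
  have r1 : Subgroup.centralizer {u} ≤ alternatingGroup (Fin n) := by
    by_contra h; exact hc.1 (exists_odd_centralizer h)
  have r2 : Subgroup.centralizer {w} ≤ alternatingGroup (Fin n) := by
    by_contra h; exact hc.2 (exists_odd_centralizer h)
  rw [Perm.centralizer_le_alternating_iff, Fintype.card_fin] at r1 r2
  obtain ⟨-, a1, b1⟩ := r1
  obtain ⟨-, a2, b2⟩ := r2
  have l1 := sum_le_n u
  have l2 := sum_le_n w
  have heq : u.cycleType.sum = w.cycleType.sum := by
    rcases Nat.lt_trichotomy u.cycleType.sum w.cycleType.sum with h | h | h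
    · have h1 := Nat.dvd_sub hw.dvd_sum hu.dvd_sum
      rw [show w.cycleType.sum - u.cycleType.sum = 1 by omega, Nat.dvd_one] at h1
      omega
    · exact h
    · have h1 := Nat.dvd_sub hu.dvd_sum hw.dvd_sum
      rw [show u.cycleType.sum - w.cycleType.sum = 1 by omega, Nat.dvd_one] at h1
      omega
  have h1 := sum_lt_pow (by omega) hu b1 hmax
  have h2 : p ^ (i + 1) ≤ p ^ j := Nat.pow_le_pow_right (by omega) hij
  have h3 := Multiset.le_sum_of_mem hjmem
  omega

theorem cycleType_cyc3 {k : ℕ} (a b c : Fin k) (h : [a, b, c].Nodup) :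
    (cyc3 a b c).cycleType = ({3} : Multiset ℕ) := by
  have e : cyc3 a b c = prodCyc [(a, [b, c])] := by
    simp [prodCyc, cyc3, List.formPerm_cons_cons]
  rw [e, prodCyc_cycleType (by simpa [pts] using h) (by simp)]
  rfl

theorem cycleType_cyc3_mul {k : ℕ} (a b c d e f : Fin k) (h : [a, b, c, d, e, f].Nodup) :
    (cyc3 a b c * cyc3 d e f).cycleType = Multiset.replicate 2 3 := by
  have e' : cyc3 a b c * cyc3 d e f = prodCyc [(a, [b, c]), (d, [e, f])] := by
    simp [prodCyc, cyc3, List.formPerm_cons_cons]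
  rw [e', prodCyc_cycleType (by simpa [pts] using h) (by simp)]
  rfl

theorem eq_replicate {u : Perm (Fin n)} (h : ∀ x ∈ u.cycleType, x = 3) :
    ∃ k, u.cycleType = Multiset.replicate k 3 := ⟨_, Multiset.eq_replicate.2 ⟨rfl, h⟩⟩

theorem target_three (hn : 5 ≤ n) {u w : Perm (Fin n)} (hu0 : u.cycleType ≠ 0) (hw0 : w.cycleType ≠ 0)
    (hu : ∀ x ∈ u.cycleType, x = 3) (hw : ∀ x ∈ w.cycleType, x = 3) : Target 3 u w := by
  obtain ⟨k, hk⟩ := eq_replicate hu
  obtain ⟨l, hl⟩ := eq_replicate hw
  have hk0 : 1 ≤ k := Nat.pos_of_ne_zero fun e => hu0 (by rw [hk, e]; rfl)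
  have hl0 : 1 ≤ l := Nat.pos_of_ne_zero fun e => hw0 (by rw [hl, e]; rfl)
  have hsu : u.cycleType.sum = 3 * k := by rw [hk, Multiset.sum_replicate, smul_eq_mul, mul_comm]
  have hsw : w.cycleType.sum = 3 * l := by rw [hl, Multiset.sum_replicate, smul_eq_mul, mul_comm]
  have hku := sum_le_n u
  have hlw := sum_le_n w
  have hp := Nat.prime_three
  have hodd : (∃ z, z * u = u * z ∧ Perm.sign z = -1) ∨ ∃ z, z * w = w * z ∧ Perm.sign z = -1 := by
    refine Or.inl (exists_odd_centralizer fun h => ?_)
    rw [Perm.centralizer_le_alternating_iff, Fintype.card_fin] at h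
    have := h.2.2 3
    rw [hk, Multiset.count_replicate_self] at this
    have := h.2.1
    omega
  have c5 : 3 * k + 2 ≤ n → 3 * l + 2 ≤ n → Target 3 u w := by
    intro h1 h2
    obtain ⟨g, hg⟩ := good_of_models (u := u) (w := w) hp hn good_five
      (by rw [cycleType_cyc3 _ _ _ (by decide), hk, Multiset.singleton_le, Multiset.mem_replicate]; omega)
      (by rw [cycleType_cyc3 _ _ _ (by decide), hl, Multiset.singleton_le, Multiset.mem_replicate]; omega)
      (by rw [cycleType_cyc3 _ _ _ (by decide), Multiset.sum_singleton]; omega)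
      (by rw [cycleType_cyc3 _ _ _ (by decide), Multiset.sum_singleton]; omega)
    exact target_of_odd hp hodd hg
  have c6 : ∀ (u w : Perm (Fin n)) (k l : ℕ), u.cycleType = Multiset.replicate k 3 →
      w.cycleType = Multiset.replicate l 3 → 1 ≤ k → 3 * k ≤ n → 3 * l ≤ n → 2 ≤ l →
      ∃ g, Good 3 u (g * w * g⁻¹) := by
    intro u w k l hk hl hk0 hkn hln hl2
    have h6 : 6 ≤ n := by omega
    have ql : Multiset.replicate 2 3 ≤ w.cycleType := by rw [hl]; exact (Multiset.replicate_le_replicate 3).2 hl2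
    rcases Nat.lt_or_ge k 2 with hk1 | hk2
    · exact good_of_models hp h6 good_six_single
        (by rw [cycleType_cyc3 _ _ _ (by decide), hk, Multiset.singleton_le, Multiset.mem_replicate]; omega)
        (by rw [cycleType_cyc3_mul _ _ _ _ _ _ (by decide)]; exact ql)
        (by rw [cycleType_cyc3 _ _ _ (by decide), hk, Multiset.sum_singleton, Multiset.sum_replicate, smul_eq_mul]; omega)
        (by rw [cycleType_cyc3_mul _ _ _ _ _ _ (by decide), hl, Multiset.sum_replicate, Multiset.sum_replicate,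
              smul_eq_mul, smul_eq_mul]; omega)
    · exact good_of_models hp h6 good_six_double
        (by rw [cycleType_cyc3_mul _ _ _ _ _ _ (by decide), hk]; exact (Multiset.replicate_le_replicate 3).2 hk2)
        (by rw [cycleType_cyc3_mul _ _ _ _ _ _ (by decide)]; exact ql)
        (by rw [cycleType_cyc3_mul _ _ _ _ _ _ (by decide), hk, Multiset.sum_replicate, Multiset.sum_replicate,
              smul_eq_mul, smul_eq_mul]; omega)
        (by rw [cycleType_cyc3_mul _ _ _ _ _ _ (by decide), hl, Multiset.sum_replicate, Multiset.sum_replicate,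
              smul_eq_mul, smul_eq_mul]; omega)
  by_cases h1 : n < 3 * l + 2
  · obtain ⟨g, hg⟩ := c6 u w k l hk hl hk0 (by omega) (by omega) (by omega)
    exact target_of_odd hp hodd hg
  by_cases h2 : n < 3 * k + 2
  · obtain ⟨g, hg⟩ := c6 w u l k hl hk hl0 (by omega) (by omega) (by omega)
    exact (target_of_odd hp hodd.symm hg).symm hp
  exact c5 (by omega) (by omega)

theorem main (hn : 5 ≤ n) (hp : p.Prime) (hp3 : 3 ≤ p) {u w : Perm (Fin n)} (hu1 : u ≠ 1) (hw1 : w ≠ 1)
    (hu' : ∃ k, orderOf u = p ^ k) (hw' : ∃ k, orderOf w = p ^ k) : Target p u w := by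
  have hu := ppow_cycleType hp hu'
  have hw := ppow_cycleType hp hw'
  have hu0 : u.cycleType ≠ 0 := fun e => hu1 (Perm.cycleType_eq_zero.1 e)
  have hw0 : w.cycleType ≠ 0 := fun e => hw1 (Perm.cycleType_eq_zero.1 e)
  obtain ⟨a, ha, hamax⟩ := exists_max hu0
  obtain ⟨b, hb, hbmax⟩ := exists_max hw0
  obtain ⟨i, hi, rfl⟩ := hu a ha
  obtain ⟨j, hj, rfl⟩ := hw b hb
  rcases Nat.lt_trichotomy i j with h | h | h
  · exact target_lt hp hp3 hu hw hu0 hamax hb h
  · subst h
    by_cases h5 : 5 ≤ p ^ i
    · obtain ⟨m, hm⟩ : ∃ m, p ^ i = m + 2 := ⟨p ^ i - 2, by omega⟩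
      have hodd : Odd p := hp.odd_of_ne_two (by omega)
      have h9 : p = 3 → 9 ≤ m + 2 := by
        intro h3
        subst h3
        rw [← hm]
        have : 2 ≤ i := by
          by_contra hi'
          have : i = 1 := by omega
          subst this
          omega
        exact le_trans (by norm_num) (Nat.pow_le_pow_right (by omega : 0 < 3) this)
      have hrot : (finRotate (m + 2)).cycleType = {m + 2} := cycleType_finRotate
      rw [hm] at ha hb
      have hmn : m + 2 ≤ n := (Multiset.le_sum_of_mem ha).trans (sum_le_n u)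
      obtain ⟨u0, v0, ι, e1, e2, e3, e4⟩ := transfer hp hmn (finRotate (m + 2)) (finRotate (m + 2))⁻¹ u.cycleType w.cycleType
        (by rw [hrot]; exact Multiset.singleton_le.2 ha)
        (by rw [Perm.cycleType_inv, hrot]; exact Multiset.singleton_le.2 hb)
        (fun _ h => Perm.two_le_of_mem_cycleType h) (fun _ h => Perm.two_le_of_mem_cycleType h)
        (by rw [hrot, Multiset.sum_singleton]; have := sum_le_n u; omega)
        (by rw [Perm.cycleType_inv, hrot, Multiset.sum_singleton]; have := sum_le_n w; omega)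
      obtain ⟨c, hc⟩ := exists_conj e1
      obtain ⟨d, hd⟩ := exists_conj e2.symm
      obtain ⟨s, hs, hG⟩ := config_equal hp hodd (by omega) (hm ▸ hodd.pow) h9 (Perm.sign c * Perm.sign d)
      refine ⟨c * ι s * d, ?_, ?_⟩
      · rw [map_mul, map_mul, e3, hs]
        rcases Int.units_eq_one_or (Perm.sign c) with h | h <;> rcases Int.units_eq_one_or (Perm.sign d) with h' | h' <;>
          simp [h, h']
      · have := (e4 s hG).conj hp c
        rw [hc, ← hd] at this
        simpa [mul_assoc] using this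
    · have hp' : p = 3 := by
        have := Nat.le_self_pow (show i ≠ 0 by omega) p
        have hodd := Nat.odd_iff.1 (hp.odd_of_ne_two (by omega))
        omega
      subst hp'
      have hall : ∀ m : Multiset ℕ, PPow 3 m → (∀ x ∈ m, x ≤ 3 ^ i) → ∀ x ∈ m, x = 3 := by
        intro m hm hle x hx
        have h1 := hm.three_le (by omega) hx
        have h2 := hle x hx
        have h3 : (3 : ℕ) ^ i = 3 := by
          have h : i = 1 := by
            by_contra hi'
            have : (3 : ℕ) ^ 2 ≤ 3 ^ i := Nat.pow_le_pow_right (by omega) (by omega)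
            omega
          rw [h, pow_one]
        omega
      exact target_three hn hu0 hw0 (hall _ hu hamax) (hall _ hw hbmax)
  · exact (target_lt hp hp3 hw hu hw0 hbmax ha h).symm hp

end Cfsg.Agent.Lib.AltPPair
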