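import Cfsg.Agent.Lib.AltPPair.Cycles

/-!
Small configurations of permutations and their transport along an injection.
-/

set_option autoImplicit false

namespace Cfsg.Agent.Lib.AltPPair

open Equiv
open scoped commutatorElement

/-- The order is not a power of `p`. -/
def NP {G : Type*} [Monoid G] (p : ℕ) (g : G) : Prop := ¬ ∃ k : ℕ, orderOf g = p ^ k

/-- The product is no `p`-element and the two elements generate a group which is not solvable. -/
def Good {G : Type*} [Group G] (p : ℕ) (a b : G) : Prop :=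
  NP p (a * b) ∧ ¬ Group.IsSolvable ↥(Subgroup.closure ({a, b} : Set G))

theorem np_of_pow {G : Type*} [Monoid G] {p : ℕ} (hp : p.Prime) {g : G} {m : ℕ} (hg : g ^ m = 1) (hm : ¬ p ∣ m)
    (hne : g ≠ 1) : NP p g := by
  rintro ⟨k, hk⟩
  cases k with
  | zero => exact hne (orderOf_eq_one_iff.1 (by simpa using hk))
  | succ k => exact hm ((dvd_pow_self p k.succ_ne_zero).trans (hk ▸ orderOf_dvd_of_pow_eq_one hg))

theorem NP.of_map {G H : Type*} [Monoid G] [Monoid H] {p : ℕ} (hp : p.Prime) (f : G →* H) {g : G}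
    (h : NP p (f g)) : NP p g := by
  rintro ⟨k, hk⟩
  obtain ⟨j, -, hj⟩ := (Nat.dvd_prime_pow hp).1 (hk ▸ orderOf_map_dvd f g)
  exact h ⟨j, hj⟩

theorem not_solvable_of_comm {G : Type*} [Group G] (S : Subgroup G) {a b w₁ w₂ w₃ w₄ : G}
    (h1 : w₁ ∈ Subgroup.closure ({a, b} : Set G)) (h2 : w₂ ∈ Subgroup.closure ({a, b} : Set G))
    (h3 : w₃ ∈ Subgroup.closure ({a, b} : Set G)) (h4 : w₄ ∈ Subgroup.closure ({a, b} : Set G))
    (ea : ⁅w₁, w₂⁆ = a) (eb : ⁅w₃, w₄⁆ = b) (ha : a ∈ S) (hb : b ∈ S) (hne : a ≠ 1) : ¬ Group.IsSolvable ↥S := by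
  intro hs
  have hle : Subgroup.closure ({a, b} : Set G) ≤ S := by
    rw [Subgroup.closure_le]
    rintro x (rfl | rfl)
    exacts [ha, hb]
  have key : ∀ n, Subgroup.closure ({a, b} : Set G) ≤ (derivedSeries ↥S n).map S.subtype := by
    intro n
    induction n with
    | zero =>
      intro x hx
      exact ⟨⟨x, hle hx⟩, by simp, rfl⟩
    | succ n ih =>
      rw [Subgroup.closure_le]
      have hc : ∀ u v : G, u ∈ Subgroup.closure ({a, b} : Set G) → v ∈ Subgroup.closure ({a, b} : Set G) →
          ⁅u, v⁆ ∈ (derivedSeries ↥S (n + 1)).map S.subtype := by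
        intro u v hu hv
        rw [derivedSeries_succ, Subgroup.map_commutator]
        exact Subgroup.commutator_mem_commutator (ih hu) (ih hv)
      rintro x (rfl | rfl)
      · exact ea ▸ hc _ _ h1 h2
      · exact eb ▸ hc _ _ h3 h4
  obtain ⟨n, hn⟩ := isSolvable_def _ |>.1 hs
  have := key n (Subgroup.subset_closure (Set.mem_insert a {b}))
  rw [hn, Subgroup.map_bot, Subgroup.mem_bot] at this
  exact hne this

/-- Membership of words in two letters. -/
theorem word_mem {G : Type*} [Group G] {a b : G} : ∀ w : List Bool,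
    (w.map fun i => if i then a else b).prod ∈ Subgroup.closure ({a, b} : Set G)
  | [] => one_mem _
  | i :: w => by
    rw [List.map_cons, List.prod_cons]
    refine mul_mem (Subgroup.subset_closure ?_) (word_mem w)
    cases i <;> simp

/-- The first letter. -/
abbrev A' : Bool := true

/-- The second letter. -/
abbrev B' : Bool := false

/-- The value of a word. -/
def ev {G : Type*} [Group G] (a b : G) (w : List Bool) : G := (w.map fun i => if i then a else b).prod

theorem map_ev {G H : Type*} [Group G] [Group H] (f : G →* H) (a b : G) (w : List Bool) :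
    f (ev a b w) = ev (f a) (f b) w := by
  induction w with
  | nil => simp [ev]
  | cons i w ih =>
    simp only [ev, List.map_cons, List.prod_cons, map_mul] at ih ⊢
    rw [ih]
    cases i <;> simp

section Transport

variable {α : Type*} [DecidableEq α] {k : ℕ}

/-- Transport of permutations along an injection. -/
noncomputable def tr (f : Fin k ↪ α) : Perm (Fin k) →* Perm α := Perm.viaEmbeddingHom f

theorem tr_swap (f : Fin k ↪ α) (i j : Fin k) : tr f (swap i j) = swap (f i) (f j) := by
  ext x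
  rw [tr, Perm.viaEmbeddingHom_apply]
  by_cases hx : x ∈ Set.range f
  · obtain ⟨y, rfl⟩ := hx
    rw [Perm.viaEmbedding_apply, f.injective.swap_apply]
  · rw [Perm.viaEmbedding_apply_of_notMem _ _ _ hx, swap_apply_of_ne_of_ne]
    · exact fun e => hx ⟨i, e.symm⟩
    · exact fun e => hx ⟨j, e.symm⟩

/-- The injection given by a list without repetitions. -/
def emb (l : List α) (h : l.Nodup) : Fin l.length ↪ α := ⟨l.get, List.nodup_iff_injective_get.1 h⟩

/-- The three-cycle `a → b → c → a`. -/
def cyc3 (a b c : α) : Perm α := swap a b * swap b c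

theorem cyc3_rot {a b c : α} (hab : a ≠ b) (hbc : b ≠ c) (hca : c ≠ a) : cyc3 a b c = cyc3 b c a := by
  ext x
  simp only [cyc3, Perm.mul_apply, swap_apply_def]
  split_ifs <;> simp_all

theorem tr_cyc3 (f : Fin k ↪ α) (a b c : Fin k) : tr f (cyc3 a b c) = cyc3 (f a) (f b) (f c) := by
  rw [cyc3, map_mul, tr_swap, tr_swap]
  rfl

set_option maxRecDepth 10000 in
theorem five_comm :
    ⁅ev (cyc3 (0 : Fin 5) 1 2) (cyc3 2 3 4) [B', A', A', B'], ev (cyc3 (0 : Fin 5) 1 2) (cyc3 2 3 4) [B', A', B']⁆ =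
      cyc3 0 1 2 ∧
    ⁅ev (cyc3 (0 : Fin 5) 1 2) (cyc3 2 3 4) [A', B', A', A'], ev (cyc3 (0 : Fin 5) 1 2) (cyc3 2 3 4) [A', B', A']⁆ =
      cyc3 2 3 4 := by
  decide

/-- Two three-cycles with exactly one common point generate a group which is not solvable. -/
theorem not_solvable_five {a b c d e : α} (h : [a, b, c, d, e].Nodup) {S : Subgroup (Perm α)}
    (h1 : cyc3 a b c ∈ S) (h2 : cyc3 c d e ∈ S) : ¬ Group.IsSolvable ↥S := by
  set f : Fin 5 ↪ α := emb [a, b, c, d, e] h with hf
  obtain ⟨e1, e2⟩ := five_comm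
  have k1 := congrArg (tr f) e1
  have k2 := congrArg (tr f) e2
  simp only [map_commutatorElement, map_ev] at k1 k2
  have q1 : tr f (cyc3 0 1 2) = cyc3 a b c := tr_cyc3 f 0 1 2
  have q2 : tr f (cyc3 2 3 4) = cyc3 c d e := tr_cyc3 f 2 3 4
  rw [q1, q2] at k1 k2
  refine not_solvable_of_comm S (word_mem _) (word_mem _) (word_mem _) (word_mem _) k1 k2 h1 h2 fun he => ?_
  have := congrArg (fun σ : Perm α => σ b) he
  simp only [List.nodup_cons, List.mem_cons, not_or] at h
  obtain ⟨⟨hab, hac, -⟩, ⟨hbc, -⟩, -⟩ := h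
  simp [cyc3, swap_apply_of_ne_of_ne (Ne.symm hac) (Ne.symm hbc)] at this
  exact hbc this.symm

end Transport

theorem good_five : Good 3 (cyc3 (0 : Fin 5) 1 2) (cyc3 2 3 4) := by
  refine ⟨np_of_pow Nat.prime_three (m := 5) (by decide) (by decide) (by decide), ?_⟩
  exact not_solvable_five (a := 0) (b := 1) (c := 2) (d := 3) (e := 4) (by decide)
    (Subgroup.subset_closure (by simp)) (Subgroup.subset_closure (by simp))

theorem good_of_words {G : Type*} [Group G] {p m : ℕ} (hp : p.Prime) {a b : G} (hm : (a * b) ^ m = 1)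
    (hd : ¬ p ∣ m) (hne : a * b ≠ 1) (ha : a ≠ 1) (w₁ w₂ w₃ w₄ : List Bool)
    (ea : ⁅ev a b w₁, ev a b w₂⁆ = a) (eb : ⁅ev a b w₃, ev a b w₄⁆ = b) : Good p a b :=
  ⟨np_of_pow hp hm hd hne, not_solvable_of_comm _ (word_mem w₁) (word_mem w₂) (word_mem w₃) (word_mem w₄) ea eb
    (Subgroup.subset_closure (Or.inl rfl)) (Subgroup.subset_closure (Or.inr rfl)) ha⟩

set_option maxRecDepth 10000 in
/-- Six points, two pairs of three-cycles. -/
theorem good_six_double :
    Good 3 (cyc3 (0 : Fin 6) 1 2 * cyc3 3 4 5) (cyc3 0 1 3 * cyc3 2 5 4) :=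
  good_of_words Nat.prime_three (m := 5) (by decide) (by decide) (by decide) (by decide)
    [B', A', A', B'] [B', A', B'] [A', B', A', A'] [A', B', A'] (by decide) (by decide)

set_option maxRecDepth 10000 in
/-- Six points, a three-cycle and a pair of three-cycles. -/
theorem good_six_single : Good 3 (cyc3 (0 : Fin 6) 1 2) (cyc3 0 1 3 * cyc3 2 4 5) :=
  good_of_words Nat.prime_three (m := 4) (by decide) (by decide) (by decide) (by decide)
    [B', A', A', B', A', B', A', A', B', B'] [A'] [A', A', B', B', A', B', A', B', B', A'] [B']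
    (by decide) (by decide)

end Cfsg.Agent.Lib.AltPPair
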