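import Cfsg.Agent.Lib.AltPPair.Models

/-!
Extending a good pair from a block of points to the whole set, with prescribed cycle types.
-/

set_option autoImplicit false

namespace Cfsg.Agent.Lib.AltPPair

open Equiv

theorem not_solvable_mono {G : Type*} [Group G] {H K : Subgroup G} (hle : H ≤ K)
    (h : ¬ Group.IsSolvable ↥H) : ¬ Group.IsSolvable ↥K := by
  intro hK
  haveI := hK
  exact h (solvable_of_solvable_injective (Subgroup.inclusion_injective hle))

theorem Good.of_map {G H : Type*} [Group G] [Group H] {p : ℕ} (hp : p.Prime) (f : G →* H) {a b : G}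
    (h : Good p (f a) (f b)) : Good p a b := by
  refine ⟨NP.of_map hp f (by rw [map_mul]; exact h.1), fun hs => h.2 ?_⟩
  haveI := hs
  rw [← Set.image_pair, ← MonoidHom.map_closure]
  exact solvable_of_surjective (f.subgroupMap_surjective (Subgroup.closure ({a, b} : Set G)))

theorem Good.map_mulEquiv {G H : Type*} [Group G] [Group H] {p : ℕ} (hp : p.Prime) (e : G ≃* H) {a b : G}
    (h : Good p a b) : Good p (e a) (e b) :=
  Good.of_map hp e.symm.toMonoidHom (by simpa using h)

theorem Good.conj {G : Type*} [Group G] {p : ℕ} (hp : p.Prime) {a b : G} (c : G) (h : Good p a b) :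
    Good p (c * a * c⁻¹) (c * b * c⁻¹) := by
  have := h.map_mulEquiv hp (MulAut.conj c)
  simpa using this

theorem Good.symm {G : Type*} [Group G] {p : ℕ} (hp : p.Prime) {a b : G} (h : Good p a b) : Good p b a := by
  refine ⟨?_, by rw [Set.pair_comm]; exact h.2⟩
  refine NP.of_map hp (MulAut.conj a).toMonoidHom ?_
  simpa [mul_assoc] using h.1

/-- The wanted statement, inside a symmetric group. -/
def Target {n : ℕ} (p : ℕ) (u w : Perm (Fin n)) : Prop := ∃ g, Perm.sign g = 1 ∧ Good p u (g * w * g⁻¹)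

theorem Target.symm {n p : ℕ} (hp : p.Prime) {u w : Perm (Fin n)} (h : Target p u w) : Target p w u := by
  obtain ⟨g, hg, hG⟩ := h
  refine ⟨g⁻¹, by rw [map_inv, hg, inv_one], ?_⟩
  have := (hG.conj hp g⁻¹).symm hp
  simpa [mul_assoc] using this

/-- Parity is repaired by an odd centralising element. -/
theorem target_of_odd {n p : ℕ} (hp : p.Prime) {u w : Perm (Fin n)}
    (hc : (∃ z, z * u = u * z ∧ Perm.sign z = -1) ∨ ∃ z, z * w = w * z ∧ Perm.sign z = -1) {g : Perm (Fin n)}
    (h : Good p u (g * w * g⁻¹)) : Target p u w := by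
  rcases Int.units_eq_one_or (Perm.sign g) with hg | hg
  · exact ⟨g, hg, h⟩
  rcases hc with ⟨z, hz, hzs⟩ | ⟨z, hz, hzs⟩
  · refine ⟨z * g, by rw [map_mul, hg, hzs]; rfl, ?_⟩
    have := h.conj hp z
    rw [hz, mul_inv_cancel_right] at this
    rw [_root_.mul_inv_rev, show z * g * w * (g⁻¹ * z⁻¹) = z * (g * w * g⁻¹) * z⁻¹ by group]
    exact this
  · refine ⟨g * z, by rw [map_mul, hg, hzs]; rfl, ?_⟩
    rw [_root_.mul_inv_rev, show g * z * w * (z⁻¹ * g⁻¹) = g * (z * w * z⁻¹) * g⁻¹ by group, hz,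
      mul_inv_cancel_right]
    exact h

theorem cycleType_viaEmbedding {b n : ℕ} (f : Fin b ↪ Fin n) (P : Perm (Fin b)) :
    (Perm.viaEmbedding P f).cycleType = P.cycleType := by
  classical
  unfold Perm.viaEmbedding
  convert Perm.cycleType_extendDomain _ using 1

theorem transfer {n b p : ℕ} (hp : p.Prime) (hbn : b ≤ n) (P Q : Perm (Fin b)) (mu mw : Multiset ℕ)
    (hu : P.cycleType ≤ mu) (hw : Q.cycleType ≤ mw) (hu2 : ∀ a ∈ mu, 2 ≤ a) (hw2 : ∀ a ∈ mw, 2 ≤ a)
    (hus : mu.sum + b ≤ n + P.cycleType.sum) (hws : mw.sum + b ≤ n + Q.cycleType.sum) :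
    ∃ (u v : Perm (Fin n)) (ι : Perm (Fin b) →* Perm (Fin n)), u.cycleType = mu ∧ v.cycleType = mw ∧
      (∀ s, Perm.sign (ι s) = Perm.sign s) ∧
      ∀ s, Good p P (s * Q * s⁻¹) → Good p u (ι s * v * (ι s)⁻¹) := by
  classical
  obtain ⟨c, rfl⟩ : ∃ c, n = b + c := ⟨n - b, by omega⟩
  set f : Fin b ↪ Fin (b + c) := ⟨Fin.castAdd c, Fin.castAdd_injective b c⟩ with hf
  set g : Fin c ↪ Fin (b + c) := ⟨Fin.natAdd b, Fin.natAdd_injective c b⟩ with hg
  have hdis : ∀ (x : Perm (Fin b)) (y : Perm (Fin c)), Perm.Disjoint (x.viaEmbedding f) (y.viaEmbedding g) := by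
    intro x y i
    by_cases hi : i ∈ Set.range f
    · refine Or.inr (Perm.viaEmbedding_apply_of_notMem _ _ _ ?_)
      rintro ⟨j, rfl⟩
      obtain ⟨k, hk⟩ := hi
      have := congrArg Fin.val hk
      simp [hf, hg] at this
      omega
    · exact Or.inl (Perm.viaEmbedding_apply_of_notMem _ _ _ hi)
  let Φ : Perm (Fin b) × Perm (Fin c) →* Perm (Fin (b + c)) :=
    MonoidHom.noncommCoprod (Perm.viaEmbeddingHom f) (Perm.viaEmbeddingHom g) fun x y => (hdis x y).commute
  have hΦ : ∀ x y, Φ (x, y) = x.viaEmbedding f * y.viaEmbedding g := fun x y => rfl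
  have hinj : Function.Injective Φ := by
    rw [injective_iff_map_eq_one]
    rintro ⟨x, y⟩ h
    rw [hΦ] at h
    have h' := (hdis x y).mul_eq_one_iff.1 h
    exact Prod.ext (Perm.viaEmbeddingHom_injective f (by
      show Perm.viaEmbeddingHom f x = Perm.viaEmbeddingHom f 1
      rw [map_one, Perm.viaEmbeddingHom_apply]; exact h'.1))
      (Perm.viaEmbeddingHom_injective g (by
      show Perm.viaEmbeddingHom g y = Perm.viaEmbeddingHom g 1
      rw [map_one, Perm.viaEmbeddingHom_apply]; exact h'.2))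
  have hct : ∀ x y, (Φ (x, y)).cycleType = x.cycleType + y.cycleType := fun x y => by
    rw [hΦ, (hdis x y).cycleType_mul, cycleType_viaEmbedding, cycleType_viaEmbedding]
  have hres : ∀ (m : Multiset ℕ) (R : Perm (Fin b)), R.cycleType ≤ m → (∀ a ∈ m, 2 ≤ a) →
      m.sum + b ≤ b + c + R.cycleType.sum → ∃ y : Perm (Fin c), R.cycleType + y.cycleType = m := by
    intro m R hR h2 hs
    obtain ⟨r, rfl⟩ := Multiset.le_iff_exists_add.1 hR
    obtain ⟨y, hy⟩ := (Perm.exists_with_cycleType_iff (Fin c) (m := r)).2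
      ⟨by rw [Multiset.sum_add] at hs; simp; omega, fun a ha => h2 a (Multiset.mem_add.2 (Or.inr ha))⟩
    exact ⟨y, by rw [hy]⟩
  obtain ⟨Ru, hRu⟩ := hres mu P hu hu2 hus
  obtain ⟨Rw, hRw⟩ := hres mw Q hw hw2 hws
  refine ⟨Φ (P, Ru), Φ (Q, Rw), Perm.viaEmbeddingHom f, by rw [hct, hRu], by rw [hct, hRw], fun s => ?_,
    fun s hs => ?_⟩
  · rw [Perm.viaEmbeddingHom_apply]
    unfold Perm.viaEmbedding
    convert Perm.sign_extendDomain _ _ using 1
  · have e : Perm.viaEmbeddingHom f s = Φ (s, 1) := by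
      rw [hΦ, ← Perm.viaEmbeddingHom_apply (ι := g), map_one, mul_one, Perm.viaEmbeddingHom_apply]
    rw [e, ← map_inv, ← map_mul, ← map_mul]
    have hG : Good p (P, Ru) ((s, 1) * (Q, Rw) * (s, 1)⁻¹) := by
      refine Good.of_map hp (MonoidHom.fst (Perm (Fin b)) (Perm (Fin c))) ?_
      simpa using hs
    refine ⟨?_, ?_⟩
    · rw [NP, ← map_mul, orderOf_injective Φ hinj]
      exact hG.1
    · intro hsol
      refine hG.2 ?_
      haveI := hsol
      rw [← Set.image_pair, ← MonoidHom.map_closure] at hsol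
      haveI := hsol
      exact solvable_of_solvable_injective
        (f := ((Subgroup.closure _).equivMapOfInjective Φ hinj).toMonoidHom) (MulEquiv.injective _)

end Cfsg.Agent.Lib.AltPPair
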